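import Groth.Agent.L05.Henselization.StrictUniq
import Groth.Agent.L05.Hensel.IntegralDomain
import Groth.Agent.L05.Hensel.Perm
import Mathlib.FieldTheory.IsSepClosed
import Mathlib.RingTheory.Localization.AtPrime.Basic

/-! # Strict henselizations of rings with the same quotients

If `A → A'` is bijective modulo the powers of `I`, then so are the maps of strict henselizations at primes
of `A'` containing `I`. -/

universe u

open IsLocalRing

set_option linter.style.haveILetI false
set_option linter.unusedVariables false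
set_option autoImplicit false

namespace Groth.L23.Rigidity

theorem strict_quotient_bijective {A A' : Type u} [CommRing A] [CommRing A'] [Algebra A A'] (I : Ideal A)
    (hq : ∀ n : ℕ, Function.Bijective (Ideal.quotientMap ((I ^ n).map (algebraMap A A')) (algebraMap A A')
      Ideal.le_comap_map))
    (p' : Ideal A') [p'.IsPrime] (p : Ideal A) [p.IsPrime] (hp : p = p'.comap (algebraMap A A')) (hI : I ≤ p)
    (O : Type u) [CommRing O] [IsLocalRing O] [Algebra A O] [IsLocalization.AtPrime O p]
    (O' : Type u) [CommRing O'] [IsLocalRing O'] [Algebra A' O'] [IsLocalization.AtPrime O' p']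
    (R : Type u) [CommRing R] [IsLocalRing R] [Algebra O R] [IsLocalHom (algebraMap O R)]
    [hR : Hensel.IsStrictHenselization O R]
    (R' : Type u) [CommRing R'] [IsLocalRing R'] [Algebra O' R'] [IsLocalHom (algebraMap O' R')]
    [hR' : Hensel.IsStrictHenselization O' R']
    (ψ : R →+* R') [IsLocalHom ψ]
    (hψ : ∀ a : A, ψ (algebraMap O R (algebraMap A O a)) =
      algebraMap O' R' (algebraMap A' O' (algebraMap A A' a))) (n : ℕ) :
    Function.Bijective (Ideal.quotientMap (((I.map ((algebraMap O R).comp (algebraMap A O))) ^ n).map ψ) ψ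
      Ideal.le_comap_map) := by
  set aR := (algebraMap O R).comp (algebraMap A O) with haR
  set aR' := (algebraMap O' R').comp (algebraMap A' O') with haR'
  set φ := algebraMap A A' with hφ
  have hcomp : ψ.comp aR = aR'.comp φ := RingHom.ext hψ
  rcases Nat.eq_zero_or_pos n with rfl | hn
  · constructor
    · intro x y _
      obtain ⟨a, rfl⟩ := Ideal.Quotient.mk_surjective x
      obtain ⟨b, rfl⟩ := Ideal.Quotient.mk_surjective y
      rw [Ideal.Quotient.eq, pow_zero, Ideal.one_eq_top]
      trivial
    · intro x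
      refine ⟨0, ?_⟩
      obtain ⟨a, rfl⟩ := Ideal.Quotient.mk_surjective x
      rw [map_zero, eq_comm, Ideal.Quotient.eq_zero_iff_mem, pow_zero, Ideal.one_eq_top, Ideal.map_top]
      trivial
  set J := (I.map aR) ^ n with hJdef
  set J' := J.map ψ with hJ'def
  have hunitO : ∀ a : A, a ∉ p → IsUnit (aR a) := fun a ha =>
    (IsLocalization.map_units O (⟨a, ha⟩ : p.primeCompl)).map (algebraMap O R)
  have hp'I : I.map φ ≤ p' := Ideal.map_le_iff_le_comap.2 (hp ▸ hI)
  have hIm : I.map aR ≤ maximalIdeal R := by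
    refine Ideal.map_le_iff_le_comap.2 fun a ha => ?_
    rw [Ideal.mem_comap, IsLocalRing.mem_maximalIdeal]
    intro hu
    have h1 : IsUnit (algebraMap A O a) := IsLocalHom.map_nonunit (f := algebraMap O R) _ hu
    exact ((IsLocalization.AtPrime.isUnit_to_map_iff O p a).1 h1) (hI ha)
  have hJm : J ≤ maximalIdeal R := (Ideal.pow_le_self hn.ne').trans hIm
  have hJ'm : J' ≤ maximalIdeal R' := (Ideal.map_mono hJm).trans
    (((IsLocalRing.local_hom_TFAE ψ).out 0 2).1 ‹IsLocalHom ψ›)
  haveI : Nontrivial (R ⧸ J) := Ideal.Quotient.nontrivial_iff.2 fun h => by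
    exact (maximalIdeal.isMaximal R).ne_top (top_le_iff.1 (h ▸ hJm))
  haveI : Nontrivial (R' ⧸ J') := Ideal.Quotient.nontrivial_iff.2 fun h => by
    exact (maximalIdeal.isMaximal R').ne_top (top_le_iff.1 (h ▸ hJ'm))
  haveI : IsLocalRing (R ⧸ J) := IsLocalRing.of_surjective' (Ideal.Quotient.mk J) Ideal.Quotient.mk_surjective
  haveI : IsLocalRing (R' ⧸ J') := IsLocalRing.of_surjective' (Ideal.Quotient.mk J') Ideal.Quotient.mk_surjective
  haveI : HenselianLocalRing R := hR.henselian
  haveI : HenselianLocalRing R' := hR'.henselian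
  haveI : HenselianLocalRing (R ⧸ J) := Groth.L05.henselianLocalRing_of_integral (A := R) (R ⧸ J)
  haveI : HenselianLocalRing (R' ⧸ J') := Groth.L05.henselianLocalRing_of_integral (A := R') (R' ⧸ J')
  haveI : IsLocalHom (Ideal.Quotient.mk J) := IsLocalHom.of_surjective _ Ideal.Quotient.mk_surjective
  haveI : IsLocalHom (Ideal.Quotient.mk J') := IsLocalHom.of_surjective _ Ideal.Quotient.mk_surjective
  -- the map from `A'` to the quotient
  let q := RingEquiv.ofBijective _ (hq n)
  let ev : A' →+* A ⧸ I ^ n := q.symm.toRingHom.comp (Ideal.Quotient.mk _)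
  have hev : ∀ (a' : A') (a : A), ev a' = Ideal.Quotient.mk (I ^ n) a → a' - φ a ∈ (I ^ n).map φ := by
    intro a' a h
    have h1 := congrArg q h
    simp only [ev, RingHom.coe_comp, Function.comp_apply, RingEquiv.toRingHom_eq_coe, RingHom.coe_coe,
      RingEquiv.apply_symm_apply] at h1
    rw [← Ideal.Quotient.eq]
    exact h1.trans (Ideal.quotientMap_mk (H := Ideal.le_comap_map))
  have hev' : ∀ a : A, ev (φ a) = Ideal.Quotient.mk (I ^ n) a := fun a => by
    show q.symm (Ideal.Quotient.mk _ (φ a)) = _
    rw [RingEquiv.symm_apply_eq]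
    exact (Ideal.quotientMap_mk (H := Ideal.le_comap_map)).symm
  have hIn : I ^ n ≤ J.comap aR := by
    rw [← Ideal.map_le_iff_le_comap, Ideal.map_pow]
  let f₀ : A' →+* R ⧸ J := (Ideal.quotientMap J aR hIn).comp ev
  have hf₀ : ∀ (a' : A') (a : A), ev a' = Ideal.Quotient.mk _ a → f₀ a' = Ideal.Quotient.mk J (aR a) := fun a' a h => by
    show Ideal.quotientMap J aR hIn (ev a') = _
    rw [h, Ideal.quotientMap_mk]
  have hfu : ∀ s : p'.primeCompl, IsUnit (f₀ s) := fun s => by
    obtain ⟨a, ha⟩ := Ideal.Quotient.mk_surjective (ev s)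
    rw [hf₀ _ a ha.symm]
    refine (hunitO a fun hap => s.2 ?_).map _
    have h1 : (s : A') - φ a ∈ p' :=
      hp'I ((Ideal.map_mono (Ideal.pow_le_self hn.ne')) (hev _ a ha.symm))
    have h2 : φ a ∈ p' := by rw [hp] at hap; exact hap
    have := p'.add_mem h1 h2
    rwa [sub_add_cancel] at this
  let α : O' →+* R ⧸ J := IsLocalization.lift hfu
  have hα : ∀ a' : A', α (algebraMap A' O' a') = f₀ a' := fun a' => IsLocalization.lift_eq hfu a'
  have hαu : ∀ x : A, α (algebraMap A' O' (φ x)) = Ideal.Quotient.mk J (aR x) := fun x => by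
    rw [hα, hf₀ _ x (hev' x)]
  haveI : IsLocalHom α := ⟨fun x hx => by
    obtain ⟨a', s, rfl⟩ := IsLocalization.exists_mk'_eq p'.primeCompl x
    have h1 : IsUnit (α (algebraMap A' O' a')) := by
      rw [← IsLocalization.mk'_spec O' a' s, map_mul]
      exact hx.mul ((IsLocalization.map_units O' s).map α)
    rw [hα] at h1
    refine (IsLocalization.AtPrime.isUnit_mk'_iff O' p' a' s).2 fun ha' => ?_
    obtain ⟨a, ha⟩ := Ideal.Quotient.mk_surjective (ev a')
    rw [hf₀ _ a ha.symm] at h1
    have h2 : IsUnit (aR a) := IsLocalHom.map_nonunit (f := Ideal.Quotient.mk J) _ h1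
    have h3 : IsUnit (algebraMap A O a) := IsLocalHom.map_nonunit (f := algebraMap O R) _ h2
    refine (IsLocalization.AtPrime.isUnit_to_map_iff O p a).1 h3 ?_
    rw [hp]
    have h4 : a' - φ a ∈ p' := hp'I ((Ideal.map_mono (Ideal.pow_le_self hn.ne')) (hev _ a ha.symm))
    have := p'.sub_mem ha' h4
    rwa [sub_sub_cancel] at this⟩
  -- residue fields
  have hκ : ∀ o' : O', ∃ o : O, ∀ (f : O' →+* R'), (∀ x, f (algebraMap A' O' x) = aR' x) →
      residue R' (f o') = residue R' (ψ (algebraMap O R o)) := by
    intro o'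
    obtain ⟨a', s, rfl⟩ := IsLocalization.exists_mk'_eq p'.primeCompl o'
    obtain ⟨a, ha⟩ := Ideal.Quotient.mk_surjective (ev a')
    obtain ⟨b, hb⟩ := Ideal.Quotient.mk_surjective (ev s)
    have hbp : b ∉ p := fun hbp => s.2 (by
      have h4 : (s : A') - φ b ∈ p' := hp'I ((Ideal.map_mono (Ideal.pow_le_self hn.ne')) (hev _ b hb.symm))
      rw [hp] at hbp
      have := p'.add_mem h4 hbp
      rwa [sub_add_cancel] at this)
    refine ⟨IsLocalization.mk' O a (⟨b, hbp⟩ : p.primeCompl), fun f hf => ?_⟩
    have hres : ∀ (x : A') (y : A), ev x = Ideal.Quotient.mk _ y → residue R' (aR' x) = residue R' (ψ (aR y)) := by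
      intro x y h
      rw [show ψ (aR y) = aR' (φ y) from hψ y, ← sub_eq_zero, ← map_sub, ← map_sub, residue_eq_zero_iff,
        IsLocalRing.mem_maximalIdeal]
      intro hu
      exact (IsLocalization.AtPrime.isUnit_to_map_iff O' p' _).1 (IsLocalHom.map_nonunit (f := algebraMap O' R') _ hu)
        (hp'I ((Ideal.map_mono (Ideal.pow_le_self hn.ne')) (hev x y h)))
    have e1 := hres a' a ha.symm
    rw [← hf, ← IsLocalization.mk'_spec O' a' s, map_mul, map_mul, hf] at e1
    rw [show aR a = algebraMap O R (algebraMap A O a) from rfl,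
      ← IsLocalization.mk'_spec O a (⟨b, hbp⟩ : p.primeCompl), map_mul, map_mul, map_mul,
      show ψ (algebraMap O R (algebraMap A O b)) = ψ (aR b) from rfl, ← hres s b hb.symm] at e1
    exact mul_right_cancel₀ (fun h0 => by
      rw [residue_eq_zero_iff, IsLocalRing.mem_maximalIdeal] at h0
      exact h0 ((IsLocalization.map_units O' s).map (algebraMap O' R'))) e1
  haveI : IsSepClosed (ResidueField R) := hR.isSepClosure.sep_closed
  haveI : Algebra.IsSeparable (ResidueField O') (ResidueField R') := hR'.isSepClosure.separable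
  let τ : ResidueField R →+* ResidueField R' := ResidueField.map ψ
  letI : Algebra (ResidueField R) (ResidueField R') := τ.toAlgebra
  have hrange : ∀ o' : O', residue R' (algebraMap O' R' o') ∈ τ.range := fun o' => by
    obtain ⟨o, ho⟩ := hκ o'
    exact ⟨residue R (algebraMap O R o), (ho (algebraMap O' R') fun x => rfl).symm⟩
  haveI : Algebra.IsSeparable (ResidueField R) (ResidueField R') := ⟨fun x => by
    have hx : IsSeparable (ResidueField O') x := Algebra.IsSeparable.isSeparable _ x
    let m := (minpoly (ResidueField O') x).map (algebraMap (ResidueField O') (ResidueField R'))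
    have hm : m ∈ Polynomial.lifts τ := by
      rw [Polynomial.lifts_iff_coeff_lifts]
      intro k
      rw [Polynomial.coeff_map]
      obtain ⟨o', ho'⟩ := residue_surjective ((minpoly (ResidueField O') x).coeff k)
      rw [← ho']
      exact hrange o'
    obtain ⟨m₀, hm₀⟩ := hm
    have hm₀' : m₀.map τ = m := hm₀
    have hs : m₀.Separable := (Polynomial.separable_map τ).1 (hm₀'.symm ▸ Polynomial.Separable.map hx)
    refine hs.of_dvd (minpoly.dvd _ x ?_)
    rw [Polynomial.aeval_def, ← Polynomial.eval_map]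
    show (m₀.map τ).eval x = 0
    rw [hm₀', Polynomial.eval_map, ← Polynomial.aeval_def]
    exact minpoly.aeval _ x⟩
  have hτ : Function.Bijective τ := ⟨τ.injective, IsSepClosed.algebraMap_surjective _ _⟩
  let τe := RingEquiv.ofBijective τ hτ
  let rJ : ResidueField R →+* ResidueField (R ⧸ J) := ResidueField.map (Ideal.Quotient.mk J)
  let rJ' : ResidueField R' →+* ResidueField (R' ⧸ J') := ResidueField.map (Ideal.Quotient.mk J')
  have hcondR' : (rJ.comp τe.symm.toRingHom).comp (ResidueField.map (algebraMap O' R')) = ResidueField.map α := by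
    refine RingHom.ext fun x => ?_
    obtain ⟨o', rfl⟩ := residue_surjective x
    obtain ⟨a', s, rfl⟩ := IsLocalization.exists_mk'_eq p'.primeCompl o'
    have key : ∀ x : A', (rJ.comp τe.symm.toRingHom) (residue R' (aR' x)) = residue _ (f₀ x) := fun x => by
      obtain ⟨a, ha⟩ := Ideal.Quotient.mk_surjective (ev x)
      rw [hf₀ x a ha.symm]
      have h1 : residue R' (aR' x) = τ (residue R (aR a)) := by
        show _ = residue R' (ψ (aR a))
        rw [show ψ (aR a) = aR' (φ a) from hψ a, ← sub_eq_zero, ← map_sub, ← map_sub, residue_eq_zero_iff,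
          IsLocalRing.mem_maximalIdeal]
        intro hu
        exact (IsLocalization.AtPrime.isUnit_to_map_iff O' p' _).1 (IsLocalHom.map_nonunit (f := algebraMap O' R') _ hu)
          (hp'I ((Ideal.map_mono (Ideal.pow_le_self hn.ne')) (hev x a ha.symm)))
      rw [h1]
      show rJ (τe.symm (τe (residue R (aR a)))) = _
      rw [RingEquiv.symm_apply_apply]
      rfl
    have h1 := key a'
    rw [← hα, ← IsLocalization.mk'_spec O' a' s, map_mul, map_mul,
      show aR' a' = algebraMap O' R' (algebraMap A' O' a') from rfl, ← IsLocalization.mk'_spec O' a' s,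
      map_mul, map_mul, map_mul, show algebraMap O' R' (algebraMap A' O' s) = aR' s from rfl, key s,
      ← hα] at h1
    refine mul_right_cancel₀ (fun h0 => ?_) h1
    rw [residue_eq_zero_iff, IsLocalRing.mem_maximalIdeal] at h0
    exact h0 ((IsLocalization.map_units O' s).map α)
  obtain ⟨χ, ⟨hχ, hχr⟩, -⟩ := hR'.universal (R ⧸ J) α (rJ.comp τe.symm.toRingHom) hcondR'
  -- retraction
  have hret : χ.comp ψ = Ideal.Quotient.mk J := by
    haveI : IsLocalHom ((Ideal.Quotient.mk J).comp (algebraMap O R)) := RingHom.isLocalHom_comp _ _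
    refine (hR.universal (R ⧸ J) ((Ideal.Quotient.mk J).comp (algebraMap O R)) rJ ?_).unique
      ⟨IsLocalization.ringHom_ext p.primeCompl (RingHom.ext fun a => ?_), fun x => ?_⟩ ⟨rfl, fun x => rfl⟩
    · refine RingHom.ext fun x => ?_
      obtain ⟨o, rfl⟩ := residue_surjective x
      rfl
    · show χ (ψ (algebraMap O R (algebraMap A O a))) = _
      rw [hψ, show χ (algebraMap O' R' (algebraMap A' O' (algebraMap A A' a))) = _ from DFunLike.congr_fun hχ _, hαu]
      rfl
    · show residue (R ⧸ J) (χ (ψ x)) = _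
      rw [hχr]
      show rJ (τe.symm (residue R' (ψ x))) = rJ (residue R x)
      rw [show residue R' (ψ x) = τe (residue R x) from rfl, RingEquiv.symm_apply_apply]
  let Q := Ideal.quotientMap J' ψ (Ideal.le_comap_map : J ≤ _)
  have hsur : Q.comp χ = Ideal.Quotient.mk J' := by
    haveI : IsLocalHom ((Ideal.Quotient.mk J').comp (algebraMap O' R')) := RingHom.isLocalHom_comp _ _
    refine (hR'.universal (R' ⧸ J') ((Ideal.Quotient.mk J').comp (algebraMap O' R')) rJ' ?_).unique
      ⟨IsLocalization.ringHom_ext p'.primeCompl (RingHom.ext fun a' => ?_), fun x => ?_⟩ ⟨rfl, fun x => rfl⟩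
    · refine RingHom.ext fun x => ?_
      obtain ⟨o, rfl⟩ := residue_surjective x
      rfl
    · show Q (χ (algebraMap O' R' (algebraMap A' O' a'))) = Ideal.Quotient.mk J' (aR' a')
      rw [show χ (algebraMap O' R' (algebraMap A' O' a')) = _ from DFunLike.congr_fun hχ _, hα]
      obtain ⟨a, ha⟩ := Ideal.Quotient.mk_surjective (ev a')
      rw [hf₀ _ a ha.symm, Ideal.quotientMap_mk, show ψ (aR a) = aR' (φ a) from hψ a, Ideal.Quotient.eq]
      have h1 := Ideal.mem_map_of_mem aR' (hev a' a ha.symm)
      rw [Ideal.map_map, ← hcomp, ← Ideal.map_map, Ideal.map_pow] at h1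
      have h2 := neg_mem h1
      rwa [← map_sub, ← neg_sub a', map_neg]
    · show residue (R' ⧸ J') (Q (χ x)) = _
      obtain ⟨r, hr⟩ := Ideal.Quotient.mk_surjective (χ x)
      have h1 := hχr x
      rw [← hr] at h1
      rw [← hr, Ideal.quotientMap_mk]
      show rJ' (residue R' (ψ r)) = rJ' (residue R' x)
      refine congrArg rJ' ?_
      have h2 : residue R r = τe.symm (residue R' x) := rJ.injective h1
      show τ (residue R r) = _
      rw [h2]
      exact τe.apply_symm_apply _
  constructor
  · rw [injective_iff_map_eq_zero]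
    intro z hz
    obtain ⟨r, rfl⟩ := Ideal.Quotient.mk_surjective z
    rw [Ideal.quotientMap_mk, Ideal.Quotient.eq_zero_iff_mem] at hz
    rw [← DFunLike.congr_fun hret r]
    have hker : J' ≤ RingHom.ker χ := Ideal.map_le_iff_le_comap.2 fun x hx => by
      show χ (ψ x) = 0
      rw [← RingHom.comp_apply, hret, Ideal.Quotient.eq_zero_iff_mem]
      exact hx
    exact hker hz
  · intro z
    obtain ⟨x, rfl⟩ := Ideal.Quotient.mk_surjective z
    exact ⟨χ x, DFunLike.congr_fun hsur x⟩

end Groth.L23.Rigidity
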