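import Groth.Agent.L23.Rigidity.Main
import Groth.Agent.L23.Rigidity.Stalk
import Groth.Agent.L27.BigSets.FlatConn
import Groth.Agent.L05.Henselization.Strict

/-! # Base change to the completion of a henselian pair for direct images of sheaves of sets from opens -/

universe u

open CategoryTheory CategoryTheory.Limits AlgebraicGeometry TopologicalSpace Opposite IsLocalRing

set_option backward.isDefEq.respectTransparency.types false
set_option linter.style.haveILetI false
set_option linter.unusedSectionVars false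
set_option linter.unusedVariables false
set_option autoImplicit false

noncomputable section

namespace Groth.L23.Rigidity

open Groth.L27 Groth.L27.BigSets
open Groth.L27.StalkRpush (toBase bPt)

variable {X : Scheme.{u}} (F : EtDesc.Sh X)

theorem bijective_map_of_square {a b a₀ b₀ : Over X} (r : a ⟶ b) (r₀ : a₀ ⟶ b₀) (ea : a ≅ a₀) (eb : b ≅ b₀)
    (w : r ≫ eb.hom = ea.hom ≫ r₀) (h : Function.Bijective ((G F).obj.map r₀.op)) :
    Function.Bijective ((G F).obj.map r.op) := by
  have hr : r = ea.hom ≫ r₀ ≫ eb.inv := by rw [← Category.assoc, ← w, Category.assoc, eb.hom_inv_id, Category.comp_id]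
  have hi : ∀ {c d : Over X} (e : c ≅ d), Function.Bijective ((G F).obj.map e.hom.op) := fun {c d} e =>
    ConcreteCategory.bijective_of_isIso ((G F).obj.map e.hom.op)
  have e1 : ((G F).obj.map r.op : _ → _) = (G F).obj.map ea.hom.op ∘ (G F).obj.map r₀.op ∘ (G F).obj.map eb.symm.hom.op :=
    funext fun x => by
      rw [hr]
      show _ = (G F).obj.map ea.hom.op ((G F).obj.map r₀.op ((G F).obj.map eb.inv.op x))
      rw [map_comp', map_comp', Category.assoc]
  rw [e1]
  exact (hi ea).comp (h.comp (hi eb.symm))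

theorem bijective_restrict_field {k K : Type u} [Field k] [IsSepClosed k] [Field K] [Algebra k K]
    (π : Spec (CommRingCat.of k) ⟶ X)
    (r : Over.mk (Spec.map (CommRingCat.ofHom (algebraMap k K)) ≫ π) ⟶ Over.mk π)
    (hr : r.left = Spec.map (CommRingCat.ofHom (algebraMap k K))) :
    Function.Bijective ((G F).obj.map r.op) := by
  let h := Spec.map (CommRingCat.ofHom (algebraMap k K))
  let m := pullback.fst (𝟙 (Spec (CommRingCat.of k))) h
  have hm : Function.Bijective ((G F).obj.map (Over.homMk m rfl : Over.mk (m ≫ π) ⟶ Over.mk π).op) :=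
    bijective_restrict_of_eta π F m
      ⟨EtSite.CF.injective_eta m (GT π F) (fun Ω _ _ s => SGA1Conn.connectedSpace_fibre _ s) (EtCoh.top _),
       EtSite.CF.surjective_eta m (GT π F) (fun Ω _ _ s => SGA1Conn.connectedSpace_fibre _ s)
        (fun W => SGA1Conn.univSubmersive_fieldExt _ _ _ _ (IsPullback.of_hasPullback W.hom m)) (EtCoh.top _)⟩
      _ rfl
  have hmh : m = pullback.snd (𝟙 (Spec (CommRingCat.of k))) h ≫ h := by
    rw [← pullback.condition, Category.comp_id]
  let e : Over.mk (h ≫ π) ≅ Over.mk (m ≫ π) :=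
    Over.isoMk (asIso (pullback.snd (𝟙 (Spec (CommRingCat.of k))) h)).symm (by
      show inv (pullback.snd (𝟙 _) h) ≫ m ≫ π = h ≫ π
      rw [hmh, Category.assoc, IsIso.inv_hom_id_assoc])
  refine bijective_map_of_square F r _ e (Iso.refl _) (Over.OverMorphism.ext ?_) hm
  show r.left ≫ 𝟙 _ = inv (pullback.snd (𝟙 _) h) ≫ m
  rw [hr, Category.comp_id, hmh, IsIso.inv_hom_id_assoc]

theorem bijective_restrict_closedPoint {R : Type u} [CommRing R] [IsLocalRing R] [HenselianLocalRing R]
    (π : Spec (CommRingCat.of R) ⟶ X) (r : Over.mk (Spec.map (CommRingCat.ofHom (residue R)) ≫ π) ⟶ Over.mk π)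
    (hr : r.left = Spec.map (CommRingCat.ofHom (residue R))) : Function.Bijective ((G F).obj.map r.op) := by
  haveI : HenselianRing R (maximalIdeal R) := inferInstance
  haveI : IsClosedImmersion (Spec.map (CommRingCat.ofHom (residue R))) :=
    IsClosedImmersion.spec_of_surjective _ residue_surjective
  refine bijective_restrict_of_eta π F (Spec.map (CommRingCat.ofHom (residue R))) ?_ r hr
  refine EtSite.H0Gabber.bijective_of_zariski _ (GT π F) fun X' p h G => ?_
  haveI := h
  refine ⟨_, ?_, H0Zariski.bijective_unit (maximalIdeal R) (p ≫ 𝟙 _) G⟩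
  rw [Scheme.Pullback.range_fst, HenselProper.range_ι, Scheme.Hom.comp_base, TopCat.coe_comp, Set.preimage_comp]
  refine congrArg (p.base ⁻¹' ·) ?_
  exact ((range_comap_of_surjective _ _ residue_surjective).trans (congrArg _ (congrArg _ Ideal.mk_ker))).symm

/-- Restriction between strictly local schemes is bijective. -/
theorem bijective_restrict_strictLocal {R R' : Type u} [CommRing R] [IsLocalRing R] [HenselianLocalRing R]
    [IsSepClosed (ResidueField R)] [CommRing R'] [IsLocalRing R'] [HenselianLocalRing R']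
    (ψ : R →+* R') [IsLocalHom ψ] (π : Spec (CommRingCat.of R) ⟶ X)
    (r : Over.mk (Spec.map (CommRingCat.ofHom ψ) ≫ π) ⟶ Over.mk π)
    (hr : r.left = Spec.map (CommRingCat.ofHom ψ)) : Function.Bijective ((G F).obj.map r.op) := by
  let c := Spec.map (CommRingCat.ofHom (residue R))
  let c' := Spec.map (CommRingCat.ofHom (residue R'))
  let p := Spec.map (CommRingCat.ofHom ψ)
  letI : Algebra (ResidueField R) (ResidueField R') := (ResidueField.map ψ).toAlgebra
  let ρ := Spec.map (CommRingCat.ofHom (algebraMap (ResidueField R) (ResidueField R')))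
  have hw : ρ ≫ c = c' ≫ p := by
    simp only [ρ, c, c', p, ← Spec.map_comp]
    congr 1
  let rc : Over.mk (c ≫ π) ⟶ Over.mk π := Over.homMk c rfl
  let rc' : Over.mk (c' ≫ p ≫ π) ⟶ Over.mk (p ≫ π) := Over.homMk c' rfl
  let rρ : Over.mk (ρ ≫ c ≫ π) ⟶ Over.mk (c ≫ π) := Over.homMk ρ rfl
  let e : Over.mk (c' ≫ p ≫ π) ≅ Over.mk (ρ ≫ c ≫ π) := Over.isoMk (Iso.refl _) (by
    show 𝟙 _ ≫ ρ ≫ c ≫ π = c' ≫ p ≫ π
    rw [Category.id_comp, ← Category.assoc, hw, Category.assoc])
  have h1 := bijective_restrict_closedPoint F π rc rfl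
  have h2 := bijective_restrict_closedPoint F (p ≫ π) rc' rfl
  have h3 := bijective_restrict_field F (c ≫ π) rρ rfl
  have he : Function.Bijective ((G F).obj.map e.hom.op) := ConcreteCategory.bijective_of_isIso _
  have hsq : rc' ≫ r = e.hom ≫ rρ ≫ rc := by
    apply Over.OverMorphism.ext
    show c' ≫ r.left = 𝟙 _ ≫ ρ ≫ c
    rw [hr, Category.id_comp, hw]
  refine (Function.Bijective.of_comp_iff' h2 _).1 ?_
  have e1 : ((G F).obj.map rc'.op : _ → _) ∘ (G F).obj.map r.op =
      (G F).obj.map e.hom.op ∘ (G F).obj.map rρ.op ∘ (G F).obj.map rc.op := funext fun x => by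
    show (G F).obj.map rc'.op ((G F).obj.map r.op x) =
      (G F).obj.map e.hom.op ((G F).obj.map rρ.op ((G F).obj.map rc.op x))
    rw [map_comp', map_comp', map_comp', hsq, Category.assoc]
  rw [e1]
  exact he.comp (h3.comp h1)

/-- Restriction to completions of parts over opens, via connected pieces. -/
theorem bijective_restrict_pieces {R R' : Type u} [CommRing R] [CommRing R'] (ψ : R →+* R')
    (V : (Spec (CommRingCat.of R)).Opens) (hV : IsCompact (V : Set (Spec (CommRingCat.of R))))
    (hconn : ConnPieces ((Spec.map (CommRingCat.ofHom ψ)) ∣_ V)) (π : (V : Scheme.{u}) ⟶ X)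
    (r : Over.mk (((Spec.map (CommRingCat.ofHom ψ)) ∣_ V) ≫ π) ⟶ Over.mk π)
    (hr : r.left = (Spec.map (CommRingCat.ofHom ψ)) ∣_ V) : Function.Bijective ((G F).obj.map r.op) := by
  haveI : CompactSpace (V : Scheme.{u}) := isCompact_iff_compactSpace.1 hV
  haveI : QuasiSeparatedSpace (V : Scheme.{u}) := quasiSeparatedSpace_of_quasiSeparated V.ι
  haveI : QuasiCompact ((Spec.map (CommRingCat.ofHom ψ)) ∣_ V) :=
    IsZariskiLocalAtTarget.restrict (P := @QuasiCompact) inferInstance V
  exact bijective_restrict_of_eta π F _ ⟨injective_top _ (GT π F) hconn, surjective_top _ (GT π F) hconn (splits_std V)⟩ r hr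

section General

variable {Y X' Y' : Scheme.{u}} {f : X ⟶ Y} {g : Y' ⟶ Y} {f' : X' ⟶ Y'} {g' : X' ⟶ X}

/-- Base change is bijective on a stalk when restriction between the strictly local pieces is. -/
theorem bijective_stalk_baseChange0Sh (h : IsPullback g' f' f g) [QuasiCompact f] [QuasiSeparated f]
    [QuasiCompact f'] [QuasiSeparated f'] (B : Type u) [CommRing B] (j : Spec (CommRingCat.of B) ⟶ Y) [IsOpenImmersion j]
    (K : Type u) [Field K] [IsSepClosed K] [Algebra B K]
    (R : Type u) [CommRing R] [Algebra B R] (e₀ : L05.Henselization.Col B K ≃ₐ[B] R)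
    (B' : Type u) [CommRing B'] (j' : Spec (CommRingCat.of B') ⟶ Y') [IsOpenImmersion j']
    (K' : Type u) [Field K'] [IsSepClosed K'] [Algebra B' K']
    (R' : Type u) [CommRing R'] [Algebra B' R'] (e₁ : L05.Henselization.Col B' K' ≃ₐ[B'] R')
    (ψ : Spec (CommRingCat.of R') ⟶ Spec (CommRingCat.of R))
    (hψ : ψ ≫ toBase B R ≫ j = (toBase B' R' ≫ j') ≫ g)
    (ρ : Spec (CommRingCat.of K') ⟶ Spec (CommRingCat.of K))
    (hρ : QC.cpt B' K' R' e₁ ≫ ψ = ρ ≫ QC.cpt B K R e₀)
    (hm : ∀ E : EtDesc.Sh X, Function.Bijective ((G E).obj.map (QC.mm h B j R B' j' R' ψ hψ).op)) :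
    Function.Bijective ((Scheme.pointSmallEtale (bPt B' j' K')).sheafFiber.map
      (EtBC.baseChange0Sh f g f' g' h.w F)) := by
  refine QC.bijective_stalk h B j K R e₀ B' j' K' R' e₁ ψ hψ ρ hρ F (hm _) _ fun V s => ?_
  rw [EtBC.baseChange0Sh, Equiv.apply_symm_apply, EtSite.BC.psi, ← EtSite.BC.swap_eq h.w V]
  exact EtSite.BC.map_map_map (EtSite.BC.P g' F).obj _ _ _ _

end General

section Completion

variable {A : Type u} [CommRing A] (I : Ideal A) [HenselianRing A I] (hI : I.FG)
  (U : (Spec (CommRingCat.of A)).Opens) (hU : IsCompact (U : Set (Spec (CommRingCat.of A))))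
  (hUI : ∀ x : Spec (CommRingCat.of A), x ∉ U → I ≤ x.asIdeal)

local notation "π̂" => Spec.map (CommRingCat.ofHom (algebraMap A (AdicCompletion I A)))

set_option maxHeartbeats 1600000 in
include hI hU hUI in
theorem isIso_baseChange0Sh_completion (F : EtDesc.Sh (U : Scheme.{u})) :
    IsIso (EtBC.baseChange0Sh U.ι π̂ (π̂ ⁻¹ᵁ U).ι (π̂ ∣_ U) (morphismRestrict_ι π̂ U) F) := by
  classical
  haveI : CompactSpace (U : Scheme.{u}) := isCompact_iff_compactSpace.1 hU
  have hsq : IsPullback (π̂ ∣_ U) (π̂ ⁻¹ᵁ U).ι U.ι π̂ := isPullback_morphismRestrict π̂ U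
  haveI : QuasiCompact U.ι := quasiCompact_of_compactSpace _
  haveI : QuasiCompact (π̂ ⁻¹ᵁ U).ι := MorphismProperty.of_isPullback hsq inferInstance
  refine EtSite.isIso_of_some_stalks _ fun y' => ?_
  let Ah := AdicCompletion I A
  let p' : Ideal Ah := y'.asIdeal
  let p : Ideal A := p'.comap (algebraMap A Ah)
  let O := Localization.AtPrime p
  let O' := Localization.AtPrime p'
  let φ : O →+* O' := Localization.localRingHom p p' (algebraMap A Ah) rfl
  haveI : IsLocalHom φ := Localization.isLocalHom_localRingHom _ _ _ _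
  obtain ⟨R, _, _, _, _, hR⟩ := L05.Henselization.exists_isStrictHenselization O
  obtain ⟨R', _, _, _, _, hR'⟩ := L05.Henselization.exists_isStrictHenselization O'
  haveI := hR.henselian
  haveI := hR'.henselian
  haveI : IsSepClosed (ResidueField R) := hR.isSepClosure.sep_closed
  haveI : IsSepClosed (ResidueField R') := hR'.isSepClosure.sep_closed
  haveI : Algebra.IsSeparable (ResidueField O) (ResidueField R) := hR.isSepClosure.separable
  let Φ : O →+* R' := (algebraMap O' R').comp φ
  haveI : IsLocalHom Φ := RingHom.isLocalHom_comp _ _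
  letI : Algebra (ResidueField O) (ResidueField R') := (ResidueField.map Φ).toAlgebra
  let τ : ResidueField R →ₐ[ResidueField O] ResidueField R' := IsSepClosed.lift
  obtain ⟨ψr, ⟨hψr, hψres⟩, -⟩ := hR.universal R' Φ τ.toRingHom τ.comp_algebraMap
  haveI : IsLocalHom ψr := ⟨fun s hs => by
    by_contra h
    have h0 : residue R s = 0 := (residue_eq_zero_iff s).mpr ((mem_maximalIdeal s).mpr h)
    have h2 := hψres s
    rw [h0, map_zero, residue_eq_zero_iff] at h2
    exact (mem_maximalIdeal _).mp h2 hs⟩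
  letI : Algebra A R := ((algebraMap O R).comp (algebraMap A O)).toAlgebra
  letI : Algebra Ah R' := ((algebraMap O' R').comp (algebraMap Ah O')).toAlgebra
  haveI : IsScalarTower A O R := IsScalarTower.of_algebraMap_eq' rfl
  haveI : IsScalarTower Ah O' R' := IsScalarTower.of_algebraMap_eq' rfl
  obtain ⟨e₀, he₀⟩ := StalkRpush.exists_algEquiv A p O R
  obtain ⟨e₁, he₁⟩ := StalkRpush.exists_algEquiv Ah p' O' R'
  have hψA : ∀ a : A, ψr (algebraMap O R (algebraMap A O a)) =
      algebraMap O' R' (algebraMap Ah O' (algebraMap A Ah a)) := fun a => by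
    rw [show ψr (algebraMap O R (algebraMap A O a)) = Φ (algebraMap A O a) from DFunLike.congr_fun hψr _]
    show algebraMap O' R' (φ (algebraMap A O a)) = _
    rw [Localization.localRingHom_to_map]
  let ψ := Spec.map (CommRingCat.ofHom ψr)
  let η : Spec (CommRingCat.of R) ⟶ Spec (CommRingCat.of A) := toBase A R ≫ 𝟙 _
  let η' : Spec (CommRingCat.of R') ⟶ Spec (CommRingCat.of Ah) := toBase Ah R' ≫ 𝟙 _
  have hψ : ψ ≫ toBase A R ≫ 𝟙 (Spec (CommRingCat.of A)) = (toBase Ah R' ≫ 𝟙 _) ≫ π̂ := by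
    simp only [Category.comp_id]
    show Spec.map _ ≫ Spec.map _ = Spec.map _ ≫ Spec.map _
    rw [← Spec.map_comp, ← Spec.map_comp]
    congr 1
    exact CommRingCat.hom_ext (RingHom.ext hψA)
  have hc₀ : QC.cpt A (ResidueField R) R e₀ = Spec.map (CommRingCat.ofHom (residue R)) := by
    refine congrArg (fun g => Spec.map (CommRingCat.ofHom g)) (RingHom.ext fun x => ?_)
    refine (DFunLike.congr_fun he₀ (e₀.symm x)).symm.trans ?_
    exact congrArg (residue R) (e₀.apply_symm_apply x)
  have hc₁ : QC.cpt Ah (ResidueField R') R' e₁ = Spec.map (CommRingCat.ofHom (residue R')) := by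
    refine congrArg (fun g => Spec.map (CommRingCat.ofHom g)) (RingHom.ext fun x => ?_)
    refine (DFunLike.congr_fun he₁ (e₁.symm x)).symm.trans ?_
    exact congrArg (residue R') (e₁.apply_symm_apply x)
  let ρ := Spec.map (CommRingCat.ofHom τ.toRingHom)
  have hρ : QC.cpt Ah (ResidueField R') R' e₁ ≫ ψ = ρ ≫ QC.cpt A (ResidueField R) R e₀ := by
    rw [hc₀, hc₁, ← Spec.map_comp, ← Spec.map_comp]
    exact congrArg Spec.map (CommRingCat.hom_ext (RingHom.ext fun x => hψres x))
  have hy : bPt Ah (𝟙 (Spec (CommRingCat.of Ah))) (ResidueField R') default = y' := by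
    have hb : bPt Ah (𝟙 (Spec (CommRingCat.of Ah))) (ResidueField R') =
        Spec.map (CommRingCat.ofHom (residue R')) ≫ toBase Ah R' := by
      rw [← hc₁, QC.cpt_toBase]
      exact Category.comp_id _
    rw [hb, Scheme.Hom.comp_apply]
    have h2 : (Spec.map (CommRingCat.ofHom (residue R'))) default = closedPoint R' := by
      rw [show (default : Spec (CommRingCat.of (ResidueField R'))) = closedPoint (ResidueField R') from
        Subsingleton.elim _ _]
      exact IsLocalRing.comap_closedPoint (residue R')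
    rw [h2]
    refine PrimeSpectrum.ext ?_
    show (maximalIdeal R').comap ((algebraMap O' R').comp (algebraMap Ah O')) = p'
    have h3 : (maximalIdeal R').comap (algebraMap O' R') = maximalIdeal O' :=
      ((IsLocalRing.local_hom_TFAE (algebraMap O' R')).out 0 4).1 ‹IsLocalHom (algebraMap O' R')›
    rw [← Ideal.comap_comap, h3]
    exact IsLocalization.AtPrime.under_maximalIdeal O' p'
  refine ⟨ResidueField R', inferInstance, inferInstance, _, hy, ?_⟩
  have hm : ∀ E : EtDesc.Sh (U : Scheme.{u}),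
      Function.Bijective ((G E).obj.map (QC.mm hsq A (𝟙 _) R Ah (𝟙 _) R' ψ hψ).op) := fun E => by
    let V : (Spec (CommRingCat.of R)).Opens := η ⁻¹ᵁ U
    let π₀ := η ∣_ U
    have hrange : Set.range (ψ ⁻¹ᵁ V).ι = Set.range (pullback.snd (π̂ ⁻¹ᵁ U).ι η') := by
      rw [Scheme.Opens.range_ι, Scheme.Pullback.range_snd, Scheme.Opens.range_ι]
      ext x
      show η (ψ x) ∈ U ↔ π̂ (η' x) ∈ U
      rw [← Scheme.Hom.comp_apply, ← Scheme.Hom.comp_apply]
      exact iff_of_eq (congrArg (fun k : Spec (CommRingCat.of R') ⟶ Spec (CommRingCat.of A) => k x ∈ U) hψ)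
    let i₁ := IsOpenImmersion.isoOfRangeEq (ψ ⁻¹ᵁ V).ι (pullback.snd (π̂ ⁻¹ᵁ U).ι η') hrange
    have hi₁ : i₁.hom ≫ pullback.snd (π̂ ⁻¹ᵁ U).ι η' = (ψ ⁻¹ᵁ V).ι := IsOpenImmersion.isoOfRangeEq_hom_fac _ _ _
    let i₀ := (isPullback_morphismRestrict η U).isoPullback
    let eb : QC.pl U.ι (𝟙 (U : Scheme.{u})) A (𝟙 _) R ≅ Over.mk π₀ := (Over.isoMk i₀ (by
      show i₀.hom ≫ pullback.fst U.ι η ≫ 𝟙 _ = π₀
      rw [Category.comp_id]
      exact (isPullback_morphismRestrict η U).isoPullback_hom_fst)).symm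
    let ea : QC.pl (π̂ ⁻¹ᵁ U).ι (π̂ ∣_ U) Ah (𝟙 _) R' ≅ Over.mk ((ψ ∣_ V) ≫ π₀) := (Over.isoMk i₁ (by
      show i₁.hom ≫ pullback.fst (π̂ ⁻¹ᵁ U).ι η' ≫ (π̂ ∣_ U) = (ψ ∣_ V) ≫ π₀
      rw [← cancel_mono U.ι]
      simp only [π₀, Category.assoc, morphismRestrict_ι]
      rw [pullback.condition_assoc, ← Category.assoc i₁.hom, hi₁, ← Category.assoc (ψ ∣_ V), morphismRestrict_ι,
        Category.assoc]
      exact congrArg ((ψ ⁻¹ᵁ V).ι ≫ ·) hψ.symm)).symm
    let r₀ : Over.mk ((ψ ∣_ V) ≫ π₀) ⟶ Over.mk π₀ := Over.homMk (ψ ∣_ V) rfl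
    refine bijective_map_of_square E _ r₀ ea eb (Over.OverMorphism.ext ?_) ?_
    · show (QC.mm hsq A (𝟙 _) R Ah (𝟙 _) R' ψ hψ).left ≫ i₀.inv = i₁.inv ≫ (ψ ∣_ V)
      rw [Iso.comp_inv_eq, Category.assoc, Iso.eq_inv_comp, ← cancel_mono (pullback.snd U.ι η)]
      have h1 : (QC.mm hsq A (𝟙 _) R Ah (𝟙 _) R' ψ hψ).left ≫ pullback.snd U.ι η =
          pullback.snd (π̂ ⁻¹ᵁ U).ι η' ≫ ψ := pullback.lift_snd _ _ _
      have h2 : i₀.hom ≫ pullback.snd U.ι η = V.ι := (isPullback_morphismRestrict η U).isoPullback_hom_snd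
      rw [Category.assoc, Category.assoc, h1, h2, morphismRestrict_ι, ← Category.assoc, hi₁]
    have hVc : IsCompact (V : Set (Spec (CommRingCat.of R))) := QuasiCompact.isCompact_preimage (f := η) _ U.2 hU
    have haR : ∀ x : Spec (CommRingCat.of R), (η x).asIdeal = x.asIdeal.comap (algebraMap A R) := fun x => by
      rw [Scheme.Hom.comp_apply]
      rfl
    by_cases hIp : I ≤ p
    · letI : Algebra R R' := ψr.toAlgebra
      let IR := I.map ((algebraMap O R).comp (algebraMap A O))
      have hIR : IR ≤ maximalIdeal R := by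
        refine Ideal.map_le_iff_le_comap.2 fun a ha => ?_
        rw [Ideal.mem_comap, IsLocalRing.mem_maximalIdeal]
        intro hu
        have h1 : IsUnit (algebraMap A O a) := IsLocalHom.map_nonunit (f := algebraMap O R) _ hu
        exact ((IsLocalization.AtPrime.isUnit_to_map_iff O p a).1 h1) (hIp ha)
      haveI : HenselianRing R (maximalIdeal R) := inferInstance
      haveI : HenselianRing R IR := Groth.L05.henselianRing_mono hIR
      have hψm : (maximalIdeal R).map ψr ≤ maximalIdeal R' :=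
        ((IsLocalRing.local_hom_TFAE ψr).out 0 2).1 ‹IsLocalHom ψr›
      have hconn := connPieces_of_quotients IR R'
        (fun n => strict_quotient_bijective I (Groth.L05.quotientMap_adicCompletion_bijective hI) p' p rfl hIp O O' R R'
          ψr hψA n)
        ((Ideal.map_mono hIR).trans (hψm.trans (IsLocalRing.maximalIdeal_le_jacobson _)))
        (hI.map _) V hVc (fun x hx => Ideal.map_le_iff_le_comap.2 ((hUI (η x) hx).trans (haR x).le))
      exact bijective_restrict_pieces E ψr V hVc hconn π₀ r₀ rfl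
    · have hpU : (⟨p, inferInstance⟩ : PrimeSpectrum A) ∈ (U : Set (Spec (CommRingCat.of A))) := by
        by_contra h
        exact hIp (hUI _ h)
      have hVtop : V = ⊤ := by
        refine top_le_iff.1 fun x _ => ?_
        refine Specializes.mem_open ((PrimeSpectrum.le_iff_specializes x (closedPoint R)).1
          (IsLocalRing.le_maximalIdeal x.2.ne_top)) V.2 ?_
        show η (closedPoint R) ∈ U
        have : η (closedPoint R) = (⟨p, inferInstance⟩ : PrimeSpectrum A) := PrimeSpectrum.ext (by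
          rw [haR]
          show (maximalIdeal R).comap ((algebraMap O R).comp (algebraMap A O)) = p
          have h3 : (maximalIdeal R).comap (algebraMap O R) = maximalIdeal O :=
            ((IsLocalRing.local_hom_TFAE (algebraMap O R)).out 0 4).1 ‹IsLocalHom (algebraMap O R)›
          rw [← Ideal.comap_comap, h3]
          exact IsLocalization.AtPrime.under_maximalIdeal O p)
        rw [this]
        exact hpU
      haveI : IsIso V.ι := by
        rw [hVtop]
        exact inferInstanceAs (IsIso (Scheme.topIso (Spec (CommRingCat.of R))).hom)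
      haveI : IsIso (ψ ⁻¹ᵁ V).ι := by
        rw [hVtop]
        exact inferInstanceAs (IsIso (Scheme.topIso (Spec (CommRingCat.of R'))).hom)
      let π₁ : Spec (CommRingCat.of R) ⟶ (U : Scheme.{u}) := inv V.ι ≫ π₀
      let ea' : Over.mk ((ψ ∣_ V) ≫ π₀) ≅ Over.mk (ψ ≫ π₁) := Over.isoMk (asIso (ψ ⁻¹ᵁ V).ι) (by
        show (ψ ⁻¹ᵁ V).ι ≫ ψ ≫ inv V.ι ≫ π₀ = (ψ ∣_ V) ≫ π₀
        rw [← Category.assoc, ← morphismRestrict_ι, Category.assoc, IsIso.hom_inv_id_assoc])
      let eb' : Over.mk π₀ ≅ Over.mk π₁ := Over.isoMk (asIso V.ι) (by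
        show V.ι ≫ inv V.ι ≫ π₀ = π₀
        rw [IsIso.hom_inv_id_assoc])
      refine bijective_map_of_square E r₀ (Over.homMk ψ rfl) ea' eb' (Over.OverMorphism.ext ?_)
        (bijective_restrict_strictLocal E ψr π₁ _ rfl)
      exact morphismRestrict_ι ψ V
  exact bijective_stalk_baseChange0Sh (f := U.ι) (g := π̂) (f' := (π̂ ⁻¹ᵁ U).ι) (g' := π̂ ∣_ U) F hsq A (𝟙 _)
    (ResidueField R) R e₀ Ah (𝟙 _) (ResidueField R') R' e₁ ψ hψ ρ hρ hm

end Completion

end Groth.L23.Rigidity
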