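import Groth.Agent.L23.Rigidity.Split
import Groth.Agent.L05.GabberRig.Main
import Groth.Agent.L05.TorsionTensor
import Groth.Agent.S0526
import Groth.Agent.S16574
import Mathlib.RingTheory.AdicCompletion.Completeness
import Mathlib.RingTheory.AdicCompletion.Algebra

/-! # Connected closed pieces for the completion of a henselian pair -/

universe u

open CategoryTheory CategoryTheory.Limits AlgebraicGeometry TopologicalSpace Opposite
open scoped TensorProduct
open PrimeSpectrum (comap zeroLocus)

set_option backward.isDefEq.respectTransparency.types false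
set_option linter.style.haveILetI false
set_option linter.unusedVariables false
set_option autoImplicit false

noncomputable section

namespace Groth.L23.Rigidity

variable {A : Type u} [CommRing A] (I : Ideal A)

theorem map_completion_le_jacobson (hI : I.FG) :
    I.map (algebraMap A (AdicCompletion I A)) ≤ Ideal.jacobson ⊥ := by
  haveI : IsAdicComplete I (AdicCompletion I A) := AdicCompletion.isAdicComplete hI
  haveI : IsAdicComplete (I.map (algebraMap A (AdicCompletion I A))) (AdicCompletion I A) :=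
    (IsAdicComplete.map_algebraMap_iff (S := AdicCompletion I A) I _).mpr inferInstance
  exact IsAdicComplete.le_jacobson_bot _

section General

variable (Ah : Type u) [CommRing Ah] [Algebra A Ah]
  (hq : ∀ n : ℕ, Function.Bijective (Ideal.quotientMap ((I ^ n).map (algebraMap A Ah)) (algebraMap A Ah)
    Ideal.le_comap_map)) (hJ : I.map (algebraMap A Ah) ≤ Ideal.jacobson ⊥)
  (C : Type u) [CommRing C] [Algebra A C]

/-- The map to the quotient inverse to the given bijection. -/
def quotEval (N : ℕ) : Ah →ₐ[A] A ⧸ I ^ N :=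
  { (RingEquiv.ofBijective _ (hq N)).symm.toRingHom.comp (Ideal.Quotient.mk _) with
    commutes' := fun a => by
      show (RingEquiv.ofBijective _ (hq N)).symm (Ideal.Quotient.mk _ (algebraMap A Ah a)) = _
      rw [RingEquiv.symm_apply_eq]
      exact (Ideal.quotientMap_mk (H := Ideal.le_comap_map)).symm }

local notation "φC" => (Algebra.TensorProduct.includeLeftRingHom : C →+* C ⊗[A] Ah)

include hq in
theorem completion_surj (N : ℕ) (y : C ⊗[A] Ah) :
    ∃ x : C, y - φC x ∈ ((I.map (algebraMap A C)) ^ N).map φC := by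
  induction y using TensorProduct.induction_on with
  | zero => exact ⟨0, by rw [map_zero, sub_zero]; exact zero_mem _⟩
  | add y z hy hz =>
    obtain ⟨a, ha⟩ := hy
    obtain ⟨b, hb⟩ := hz
    exact ⟨a + b, by rw [map_add, add_sub_add_comm]; exact add_mem ha hb⟩
  | tmul c a =>
    obtain ⟨q, hq⟩ := (hq N).2 (Ideal.Quotient.mk _ a)
    obtain ⟨a₀, rfl⟩ := Ideal.Quotient.mk_surjective q
    rw [Ideal.quotientMap_mk, Ideal.Quotient.eq] at hq
    refine ⟨c * algebraMap A C a₀, ?_⟩
    have h1 : c ⊗ₜ[A] a - φC (c * algebraMap A C a₀) =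
        (c ⊗ₜ[A] (1 : Ah)) *
          (Algebra.TensorProduct.includeRight : Ah →ₐ[A] C ⊗[A] Ah)
            (a - algebraMap A (Ah) a₀) := by
      simp only [Algebra.TensorProduct.includeLeftRingHom_apply, Algebra.TensorProduct.includeRight_apply]
      rw [Algebra.TensorProduct.tmul_mul_tmul, mul_one, one_mul, TensorProduct.tmul_sub,
        mul_comm c, ← Algebra.smul_def, TensorProduct.smul_tmul, Algebra.algebraMap_eq_smul_one]
    rw [h1]
    refine Ideal.mul_mem_left _ _ ?_
    have h2 := Ideal.mem_map_of_mem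
      (Algebra.TensorProduct.includeRight : Ah →ₐ[A] C ⊗[A] Ah).toRingHom
      (neg_mem hq)
    rw [neg_sub, Ideal.map_map] at h2
    rw [← Ideal.map_pow, Ideal.map_map]
    have h3 : (φC).comp (algebraMap A C) =
        (Algebra.TensorProduct.includeRight : Ah →ₐ[A] C ⊗[A] Ah).toRingHom.comp
          (algebraMap A (Ah)) :=
      RingHom.ext fun r => by
        show algebraMap A C r ⊗ₜ[A] (1 : Ah) = 1 ⊗ₜ[A] algebraMap A (Ah) r
        rw [Algebra.algebraMap_eq_smul_one, TensorProduct.smul_tmul, ← Algebra.algebraMap_eq_smul_one]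
    exact h3 ▸ h2

include hq in
theorem completion_inj (N : ℕ) (x : C) (hx : φC x ∈ ((I.map (algebraMap A C)) ^ N).map φC) :
    x ∈ (I.map (algebraMap A C)) ^ N := by
  let J := (I.map (algebraMap A C)) ^ N
  have hJ : I ^ N ≤ J.comap (algebraMap A C) := by
    rw [← Ideal.map_le_iff_le_comap, Ideal.map_pow]
  let e : Ah →ₐ[A] C ⧸ J :=
    (Ideal.Quotient.liftₐ (I ^ N) (Algebra.ofId A (C ⧸ J)) fun a ha => by
      show algebraMap A (C ⧸ J) a = 0
      rw [IsScalarTower.algebraMap_apply A C (C ⧸ J), Ideal.Quotient.algebraMap_eq,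
        Ideal.Quotient.eq_zero_iff_mem]
      exact hJ ha).comp (quotEval I Ah hq N)
  let ψ : C ⊗[A] Ah →ₐ[A] C ⧸ J :=
    Algebra.TensorProduct.lift (Ideal.Quotient.mkₐ A J) e fun _ _ => Commute.all _ _
  have hψ : ∀ c : C, ψ (φC c) = Ideal.Quotient.mk J c := fun c => by
    show ψ (c ⊗ₜ[A] 1) = _
    rw [Algebra.TensorProduct.lift_tmul, map_one, mul_one]
    rfl
  rw [← Ideal.Quotient.eq_zero_iff_mem, ← hψ x]
  have h : (J.map φC) ≤ RingHom.ker ψ.toRingHom := by
    rw [Ideal.map_le_iff_le_comap]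
    intro c hc
    show ψ (φC c) = 0
    rw [hψ, Ideal.Quotient.eq_zero_iff_mem]
    exact hc
  exact h hx

include hJ in
theorem completion_le_jacobson [Algebra.IsIntegral A C] :
    (I.map (algebraMap A C)).map φC ≤ Ideal.jacobson ⊥ := by
  rw [Ideal.map_map, Ideal.map_le_iff_le_comap]
  intro a ha
  rw [Ideal.mem_comap]
  simp only [Ideal.jacobson, Ideal.mem_sInf, Set.mem_setOf_eq]
  rintro m ⟨-, hm⟩
  haveI := hm
  let r := (Algebra.TensorProduct.includeRight : Ah →ₐ[A] C ⊗[A] Ah).toRingHom
  have hr : r.IsIntegral := by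
    intro x
    induction x using TensorProduct.induction_on with
    | zero => exact r.isIntegralElem_zero
    | add y z hy hz => exact hy.add r hz
    | tmul c b =>
      rw [show c ⊗ₜ[A] b = (c ⊗ₜ[A] (1 : Ah)) * r b by
        simp [r, Algebra.TensorProduct.tmul_mul_tmul]]
      refine RingHom.IsIntegralElem.mul r ?_ r.isIntegralElem_map
      obtain ⟨p, hp, hp'⟩ := Algebra.IsIntegral.isIntegral (R := A) c
      refine ⟨p.map (algebraMap A (Ah)), hp.map _, ?_⟩
      rw [Polynomial.eval₂_map]
      have h1 : r.comp (algebraMap A (Ah)) = (φC).comp (algebraMap A C) :=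
        RingHom.ext fun s => by
          show 1 ⊗ₜ[A] algebraMap A (Ah) s = algebraMap A C s ⊗ₜ[A] (1 : Ah)
          rw [Algebra.algebraMap_eq_smul_one, ← TensorProduct.smul_tmul, ← Algebra.algebraMap_eq_smul_one]
      rw [h1]
      exact (Polynomial.hom_eval₂ p (algebraMap A C) φC c).symm.trans (by rw [hp', map_zero])
  have hmax : (m.comap r).IsMaximal := Ideal.isMaximal_comap_of_isIntegral_of_isMaximal' r hr m
  have h1 : algebraMap A (Ah) a ∈ m.comap r := by
    have h2 := hJ (Ideal.mem_map_of_mem (algebraMap A (Ah)) ha)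
    simp only [Ideal.jacobson, Ideal.mem_sInf, Set.mem_setOf_eq] at h2
    exact h2 ⟨bot_le, hmax⟩
  rw [Ideal.mem_comap] at h1
  convert h1 using 1
  show algebraMap A C a ⊗ₜ[A] (1 : Ah) = 1 ⊗ₜ[A] algebraMap A (Ah) a
  rw [Algebra.algebraMap_eq_smul_one, TensorProduct.smul_tmul, ← Algebra.algebraMap_eq_smul_one]

include hq hJ in
/-- The preimage in `Spec (C ⊗ Â)` of the part of an integral `Spec C` over `U` is connected. -/
theorem isConnected_preimage [HenselianRing A I] (hI : I.FG) [Module.Finite A C] [IsDomain C]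
    (Us : Set (PrimeSpectrum A)) (hUo : IsOpen Us) (hUc : IsCompact Us) (hUI : (zeroLocus (I : Set A))ᶜ ⊆ Us)
    (hne : (comap (algebraMap A C) ⁻¹' Us).Nonempty) :
    _root_.IsConnected (comap (φC) ⁻¹' (comap (algebraMap A C) ⁻¹' Us)) := by
  haveI : Algebra.IsIntegral A C := inferInstance
  let IC := I.map (algebraMap A C)
  haveI : HenselianRing C IC := Groth.Agent.S0526.result A I C
  set UC := comap (algebraMap A C) ⁻¹' Us with hUC
  have hUCo : IsOpen UC := hUo.preimage (PrimeSpectrum.continuous_comap _)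
  have hUCc : IsCompact UC :=
    QuasiCompact.isCompact_preimage (f := Spec.map (CommRingCat.ofHom (algebraMap A C))) Us hUo hUc
  have hICfg : IC.FG := hI.map _
  have hD : (zeroLocus (IC : Set C))ᶜ ⊆ UC := fun x hx => hUI fun h => hx fun c hc => by
    have : IC ≤ x.asIdeal := Ideal.map_le_iff_le_comap.2 h
    exact this hc
  have hs := completion_surj I Ah hq C
  have hi := completion_inj I Ah hq C
  have hJC : IC.map φC ≤ Ideal.jacobson ⊥ := completion_le_jacobson I Ah hJ C
  obtain ⟨σ, hσs, hσ, hσk⟩ := Groth.L05.GabberRig.exists_retraction IC φC hs hi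
  have hmem := fun {T₁ T₂ : Set (PrimeSpectrum C)} (a : IsOpen T₁) (b : IsOpen (UC \ T₁)) (c : T₁ ⊆ UC)
      (d : IsOpen T₂) (e : IsOpen (UC \ T₂)) (h : ∀ p, comap φC p ∈ T₁ → comap φC p ∈ T₂) =>
    Groth.L05.GabberRig.mem_of_preimage_mem IC φC hs hICfg UC hUCo hD a b c d e σ hσ hi h
  refine ⟨?_, ?_⟩
  · by_contra hem
    rw [Set.not_nonempty_iff_eq_empty] at hem
    obtain ⟨x, hx⟩ := hne
    refine (hmem (T₁ := UC) (T₂ := ∅) hUCo (by rw [Set.sdiff_self]; exact isOpen_empty) subset_rfl isOpen_empty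
      (by rw [Set.sdiff_empty]; exact hUCo) (fun p hp => ?_) hx).elim
    exact (Set.eq_empty_iff_forall_notMem.1 hem p hp).elim
  · intro u v hu hv hcov hUu hUv
    by_contra hdis
    rw [Set.not_nonempty_iff_eq_empty] at hdis
    set V := comap φC ⁻¹' UC with hV
    have hVo : IsOpen V := hUCo.preimage (PrimeSpectrum.continuous_comap _)
    have hT' : IsOpen (V \ (V ∩ u)) := by
      have : V \ (V ∩ u) = V ∩ v := Set.ext fun p =>
        ⟨fun h => ⟨h.1, (hcov h.1).resolve_left fun hp => h.2 ⟨h.1, hp⟩⟩,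
          fun h => ⟨h.1, fun h' => Set.eq_empty_iff_forall_notMem.1 hdis p ⟨h.1, h'.2, h.2⟩⟩⟩
      rw [this]
      exact hVo.inter hv
    obtain ⟨W, hWU, hW, hW', hWT⟩ := Groth.L05.GabberRig.exists_clopen IC φC hs hi hJC hICfg UC hUCo hD
      hσs hσ hσk hUCc (hVo.inter hu) hT' Set.inter_subset_left
    obtain ⟨p, hp⟩ := hUu
    obtain ⟨q, hq⟩ := hUv
    have hpW : comap φC p ∈ W := hWT.ge hp
    have hqW : comap φC q ∈ UC \ W := ⟨hq.1, fun h =>
      Set.eq_empty_iff_forall_notMem.1 hdis q ⟨hq.1, (hWT.le h).2, hq.2⟩⟩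
    obtain ⟨z, hz, hz'⟩ := (PreirreducibleSpace.isPreirreducible_univ (X := PrimeSpectrum C)) W (UC \ W) hW hW'
      ⟨_, trivial, hpW⟩ ⟨_, trivial, hqW⟩
    exact hz'.2.2 hz'.1


include hq hJ in
theorem connPieces_of_quotients [HenselianRing A I] (hI : I.FG) (U : (Spec (CommRingCat.of A)).Opens)
    (hU : IsCompact (U : Set (Spec (CommRingCat.of A))))
    (hUI : ∀ x : Spec (CommRingCat.of A), x ∉ U → I ≤ x.asIdeal) :
    ConnPieces ((Spec.map (CommRingCat.ofHom (algebraMap A (Ah)))) ∣_ U) := by
  intro Y π hπ y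
  haveI := hπ
  obtain ⟨B, _, _, i, hfinB, hsq⟩ := Groth.Agent.S16574.result A U hU Y π
  haveI := hfinB
  haveI : IsOpenImmersion i := MorphismProperty.of_isPullback hsq.flip (show IsOpenImmersion U.ι from inferInstance)
  let C : Type u := B ⧸ (i y).asIdeal
  haveI : IsDomain C := Ideal.Quotient.isDomain _
  haveI : Module.Finite A C := Module.Finite.of_surjective (Ideal.Quotient.mkₐ A (i y).asIdeal).toLinearMap
    Ideal.Quotient.mk_surjective
  let gB : Spec (CommRingCat.of B) ⟶ Spec (CommRingCat.of A) := Spec.map (CommRingCat.ofHom (algebraMap A B))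
  let gC : Spec (CommRingCat.of C) ⟶ Spec (CommRingCat.of A) := Spec.map (CommRingCat.ofHom (algebraMap A C))
  let k : Spec (CommRingCat.of C) ⟶ Spec (CommRingCat.of B) :=
    Spec.map (CommRingCat.ofHom (Ideal.Quotient.mk (i y).asIdeal))
  have hk : k ≫ gB = gC := (Spec.map_comp _ _).symm
  let NC : (Spec (CommRingCat.of C)).Opens := gC ⁻¹ᵁ U
  let c : (NC : Scheme.{u}) ⟶ Y := hsq.lift (NC.ι ≫ k) (gC ∣_ U)
    ((Category.assoc _ _ _).trans ((congrArg (NC.ι ≫ ·) hk).trans (morphismRestrict_ι _ _).symm))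
  have hc₁ : c ≫ i = NC.ι ≫ k := hsq.lift_fst _ _ _
  have hc₂ : c ≫ π = gC ∣_ U := hsq.lift_snd _ _ _
  have hiy : ∀ z : Y, gB (i z) ∈ U := fun z => by
    rw [← Scheme.Hom.comp_apply, hsq.w, Scheme.Hom.comp_apply]
    exact (π z).2
  have hrc : Set.range c = closure {y} := by
    rw [i.isOpenEmbedding.isInducing.closure_eq_preimage_closure_image, Set.image_singleton]
    ext z
    refine Iff.trans ?_ (iff_of_eq (congrArg (fun s : Set (PrimeSpectrum B) => i z ∈ s)
      (PrimeSpectrum.closure_singleton (i y)))).symm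
    show z ∈ Set.range c ↔ (i y).asIdeal ≤ (i z).asIdeal
    constructor
    · rintro ⟨x, rfl⟩
      rw [← Scheme.Hom.comp_apply, hc₁, Scheme.Hom.comp_apply]
      exact (Ideal.mk_ker (I := (i y).asIdeal)).ge.trans (Ideal.ker_le_comap _)
    · intro hz
      have h1 : i z ∈ Set.range k := by
        have h2 := range_comap_of_surjective _ _ (Ideal.Quotient.mk_surjective (I := (i y).asIdeal))
        rw [Ideal.mk_ker] at h2
        exact h2.ge hz
      obtain ⟨x, hx⟩ := h1
      have hxN : x ∈ NC := by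
        show gC x ∈ U
        rw [← hk, Scheme.Hom.comp_apply, hx]
        exact hiy z
      refine ⟨⟨x, hxN⟩, i.isOpenEmbedding.injective ?_⟩
      rw [← Scheme.Hom.comp_apply, hc₁, Scheme.Hom.comp_apply]
      exact hx
  let h := Spec.map (CommRingCat.ofHom (algebraMap A Ah))
  let P := pullback gC h
  let e : P ≅ Spec (CommRingCat.of (C ⊗[A] Ah)) := pullbackSpecIso A C Ah
  let qC : P ⟶ Spec (CommRingCat.of C) := pullback.fst gC h
  let ND : P.Opens := qC ⁻¹ᵁ NC
  have hND : Set.range (ND.ι ≫ pullback.snd gC h) ⊆ Set.range (h ⁻¹ᵁ U).ι := by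
    rw [Scheme.Opens.range_ι]
    rintro _ ⟨x, rfl⟩
    show h ((ND.ι ≫ pullback.snd gC h) x) ∈ U
    rw [← Scheme.Hom.comp_apply, Category.assoc, ← pullback.condition, Scheme.Hom.comp_apply, Scheme.Hom.comp_apply]
    exact x.2
  let b := IsOpenImmersion.lift (h ⁻¹ᵁ U).ι (ND.ι ≫ pullback.snd gC h) hND
  let a : (ND : Scheme.{u}) ⟶ Y := (qC ∣_ NC) ≫ c
  have hab : a ≫ π = b ≫ (h ∣_ U) := by
    rw [← cancel_mono U.ι]
    simp only [a, Category.assoc]
    rw [morphismRestrict_ι, ← Category.assoc b, IsOpenImmersion.lift_fac, Category.assoc,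
      ← pullback.condition, ← Category.assoc c, hc₂, morphismRestrict_ι, ← Category.assoc, morphismRestrict_ι,
      Category.assoc]
  let Φ : (ND : Scheme.{u}) ⟶ pullback π (h ∣_ U) := pullback.lift a b hab
  have hconn : _root_.IsConnected (Set.univ : Set ↥(ND : Scheme.{u})) := by
    have h0 := isConnected_preimage I Ah hq hJ C hI (U : Set (Spec (CommRingCat.of A))) U.2 hU (fun x hx => by
      by_contra hxU
      exact hx (hUI x hxU)) ⟨(⊥ : PrimeSpectrum C), by
        show gC (⊥ : PrimeSpectrum C) ∈ U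
        have hb : k (⊥ : PrimeSpectrum C) = i y := by
          refine PrimeSpectrum.ext ?_
          show Ideal.comap (Ideal.Quotient.mk (i y).asIdeal) ⊥ = _
          rw [← RingHom.ker_eq_comap_bot, Ideal.mk_ker]
        rw [← hk, Scheme.Hom.comp_apply, hb]
        exact hiy y⟩
    have h1 := h0.image e.inv e.inv.continuous.continuousOn
    have h2 : e.inv '' (comap (Algebra.TensorProduct.includeLeftRingHom : C →+* C ⊗[A] Ah) ⁻¹'
        (comap (algebraMap A C) ⁻¹' (U : Set (Spec (CommRingCat.of A))))) = (ND : Set P) := by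
      ext x
      have h3 : ∀ d : Spec (CommRingCat.of (C ⊗[A] Ah)),
          qC (e.inv d) = comap (Algebra.TensorProduct.includeLeftRingHom : C →+* C ⊗[A] Ah) d := fun d => by
        rw [← Scheme.Hom.comp_apply]
        exact congrArg (fun m : Spec (CommRingCat.of (C ⊗[A] Ah)) ⟶ Spec (CommRingCat.of C) => m d)
          (pullbackSpecIso_inv_fst A C Ah)
      constructor
      · rintro ⟨d, hd, rfl⟩
        show gC (qC (e.inv d)) ∈ U
        rw [h3]
        exact hd
      · intro hx
        have hx' : e.inv (e.hom x) = x := by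
          rw [← Scheme.Hom.comp_apply, e.hom_inv_id]
          rfl
        refine ⟨e.hom x, ?_, hx'⟩
        show gC (comap _ (e.hom x)) ∈ U
        rw [← h3, hx']
        exact hx
    replace h1 : _root_.IsConnected (ND : Set P) := (congrArg (fun s => _root_.IsConnected s) h2).mp h1
    obtain ⟨x, hx⟩ := h1.nonempty
    exact ⟨⟨⟨x, hx⟩, trivial⟩, Topology.IsInducing.subtypeVal.isPreconnected_image.1 ((congrArg _root_.IsPreconnected (Set.image_univ.trans Subtype.range_coe)).mpr h1.2)⟩
  have hr : pullback.fst π (h ∣_ U) ⁻¹' closure {y} = Set.range Φ := by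
    rw [← hrc]
    ext q
    constructor
    · intro hq
      rw [← Scheme.Pullback.range_fst] at hq
      obtain ⟨r, rfl⟩ := hq
      let R := pullback (pullback.fst π (h ∣_ U)) c
      let m : R ⟶ P := pullback.lift (pullback.snd (pullback.fst π (h ∣_ U)) c ≫ NC.ι)
        (pullback.fst (pullback.fst π (h ∣_ U)) c ≫ pullback.snd π (h ∣_ U) ≫ (h ⁻¹ᵁ U).ι) (by
          simp only [Category.assoc]
          rw [← morphismRestrict_ι gC U, ← morphismRestrict_ι h U, ← hc₂, Category.assoc,
            ← pullback.condition_assoc (f := pullback.fst π (h ∣_ U)) (g := c),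
            pullback.condition_assoc (f := π) (g := h ∣_ U)])
      have hm : Set.range m ⊆ Set.range ND.ι := by
        rw [Scheme.Opens.range_ι]
        rintro _ ⟨x, rfl⟩
        show qC (m x) ∈ NC
        rw [← Scheme.Hom.comp_apply, pullback.lift_fst, Scheme.Hom.comp_apply]
        exact (pullback.snd (pullback.fst π (h ∣_ U)) c x).2
      let l := IsOpenImmersion.lift ND.ι m hm
      have hl : l ≫ ND.ι = m := IsOpenImmersion.lift_fac _ _ _
      have hlΦ : l ≫ Φ = pullback.fst (pullback.fst π (h ∣_ U)) c := by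
        refine pullback.hom_ext ?_ ?_
        · rw [Category.assoc, pullback.lift_fst, pullback.condition]
          simp only [a]
          rw [← Category.assoc]
          congr 1
          rw [← cancel_mono NC.ι, Category.assoc, morphismRestrict_ι, ← Category.assoc, hl, pullback.lift_fst]
        · rw [Category.assoc, pullback.lift_snd, ← cancel_mono (h ⁻¹ᵁ U).ι, Category.assoc,
            IsOpenImmersion.lift_fac, ← Category.assoc, hl, pullback.lift_snd, Category.assoc]
      exact ⟨l r, by rw [← Scheme.Hom.comp_apply, hlΦ]⟩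
    · rintro ⟨x, rfl⟩
      show pullback.fst π (h ∣_ U) (Φ x) ∈ Set.range c
      rw [← Scheme.Hom.comp_apply, pullback.lift_fst, Scheme.Hom.comp_apply]
      exact ⟨_, rfl⟩
  rw [hr, ← Set.image_univ]
  exact hconn.image Φ Φ.continuous.continuousOn

end General

/-- The completion of a henselian pair has connected closed pieces over finite schemes over `U`. -/
theorem connPieces_completion [HenselianRing A I] (hI : I.FG) (U : (Spec (CommRingCat.of A)).Opens)
    (hU : IsCompact (U : Set (Spec (CommRingCat.of A))))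
    (hUI : ∀ x : Spec (CommRingCat.of A), x ∉ U → I ≤ x.asIdeal) :
    ConnPieces ((Spec.map (CommRingCat.ofHom (algebraMap A (AdicCompletion I A)))) ∣_ U) :=
  connPieces_of_quotients I (AdicCompletion I A) (Groth.L05.quotientMap_adicCompletion_bijective hI)
    (map_completion_le_jacobson I hI) hI U hU hUI

end Groth.L23.Rigidity
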