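import Mathlib.Topology.Spectral.Basic
import Mathlib.Topology.Sober
import Mathlib.Order.Zorn

/-! # Gluing compatible choices of charts along maps with connected preimages

`g : T → Y` is a map to a spectral space such that every irreducible closed subset has connected
preimage. Given finitely many opens `V j` of `Y`, an open pointwise equivalence relation `R` between
them and a compatible selection `M` over `T`, there is a global locally compatible selection. -/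

universe u v

open Topology TopologicalSpace Set

namespace Groth.L23.Rigidity

variable {Y T : Type u} [TopologicalSpace Y] [TopologicalSpace T] {J : Type v}

/-- The gluing data. -/
structure Data (g : T → Y) (V : J → Set Y) (R : J → J → Set Y) (M : J → Set T) : Prop where
  isOpen_V : ∀ j, IsOpen (V j)
  isOpen_R : ∀ j l, IsOpen (R j l)
  refl : ∀ j, V j ⊆ R j j
  mem_V : ∀ j l, R j l ⊆ V j
  symm : ∀ j l, R j l ⊆ R l j
  trans : ∀ j l m, R j l ∩ R l m ⊆ R j m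
  isOpen_M : ∀ j, IsOpen (M j)
  cover : ∀ q, ∃ j, q ∈ M j
  mem_V' : ∀ j, ∀ q ∈ M j, g q ∈ V j
  iff : ∀ j l, ∀ q ∈ M j, g q ∈ V l → (q ∈ M l ↔ g q ∈ R j l)

/-- A compatible selection on a subset. -/
structure Good (g : T → Y) (V : J → Set Y) (R : J → J → Set Y) (M : J → Set T) (C : Set Y) (c : Y → J) :
    Prop where
  local' : ∀ y ∈ C, ∃ N, IsOpen N ∧ y ∈ N ∧ N ⊆ V (c y) ∧ ∀ z ∈ N, z ∈ C → z ∈ R (c y) (c z)
  compat : ∀ q, g q ∈ C → q ∈ M (c (g q))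

variable {g : T → Y} {V : J → Set Y} {R : J → J → Set Y} {M : J → Set T}

theorem exists_good_union (hd : Data g V R M) {C₁ C₂ : Set Y} (h₁ : IsClosed C₁) (h₂ : IsClosed C₂)
    {c₁ c₂ : Y → J} (g₁ : Good g V R M C₁ c₁) (g₂ : Good g V R M C₂ c₂)
    (hconn : ∀ C : Set Y, IsClosed C → C.Nonempty → (g ⁻¹' C).Nonempty) :
    ∃ c, Good g V R M (C₁ ∪ C₂) c := by
  classical
  have hag : ∀ y ∈ C₁ ∩ C₂, y ∈ R (c₁ y) (c₂ y) := by
    by_contra hne
    push Not at hne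
    let D : Set Y := {y | y ∈ C₁ ∩ C₂ ∧ y ∉ R (c₁ y) (c₂ y)}
    have hD : IsClosed D := by
      refine isOpen_compl_iff.1 (isOpen_iff_forall_mem_open.2 fun y hy => ?_)
      by_cases hy12 : y ∈ C₁ ∩ C₂
      · have hyR : y ∈ R (c₁ y) (c₂ y) := by
          by_contra h
          exact hy ⟨hy12, h⟩
        obtain ⟨N₁, hN₁, hy₁, -, l₁⟩ := g₁.local' y hy12.1
        obtain ⟨N₂, hN₂, hy₂, -, l₂⟩ := g₂.local' y hy12.2
        exact ⟨N₁ ∩ N₂ ∩ R (c₁ y) (c₂ y), fun z hz hzD => hzD.2 (hd.trans _ _ _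
          ⟨hd.trans _ _ _ ⟨hd.symm _ _ (l₁ z hz.1.1 hzD.1.1), hz.2⟩, l₂ z hz.1.2 hzD.1.2⟩),
          (hN₁.inter hN₂).inter (hd.isOpen_R _ _), ⟨hy₁, hy₂⟩, hyR⟩
      · exact ⟨(C₁ ∩ C₂)ᶜ, fun z hz hzD => hz hzD.1, (h₁.inter h₂).isOpen_compl, hy12⟩
    obtain ⟨y, hy⟩ := hne
    obtain ⟨q, hq⟩ := hconn D hD ⟨y, hy⟩
    have hq1 := g₁.compat q hq.1.1
    have hq2 := g₂.compat q hq.1.2
    exact hq.2 ((hd.iff _ _ q hq1 (hd.mem_V' _ q hq2)).1 hq2)
  refine ⟨fun y => if y ∈ C₁ then c₁ y else c₂ y, ⟨fun y hy => ?_, fun q hq => ?_⟩⟩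
  · by_cases hy1 : y ∈ C₁
    · simp only [if_pos hy1]
      obtain ⟨N, hN, hyN, hNV, hl⟩ := g₁.local' y hy1
      by_cases hy2 : y ∈ C₂
      · obtain ⟨N₂, hN₂, hyN₂, -, hl₂⟩ := g₂.local' y hy2
        refine ⟨N ∩ N₂ ∩ R (c₁ y) (c₂ y), (hN.inter hN₂).inter (hd.isOpen_R _ _), ⟨⟨hyN, hyN₂⟩, hag y ⟨hy1, hy2⟩⟩,
          fun z hz => hNV hz.1.1, fun z hz hzC => ?_⟩
        by_cases hz1 : z ∈ C₁
        · rw [if_pos hz1]; exact hl z hz.1.1 hz1
        · rw [if_neg hz1]; exact hd.trans _ _ _ ⟨hz.2, hl₂ z hz.1.2 (hzC.resolve_left hz1)⟩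
      · refine ⟨N ∩ C₂ᶜ, hN.inter h₂.isOpen_compl, ⟨hyN, hy2⟩, fun z hz => hNV hz.1, fun z hz hzC => ?_⟩
        have hz1 : z ∈ C₁ := hzC.resolve_right hz.2
        rw [if_pos hz1]; exact hl z hz.1 hz1
    · simp only [if_neg hy1]
      obtain ⟨N, hN, hyN, hNV, hl⟩ := g₂.local' y (hy.resolve_left hy1)
      refine ⟨N ∩ C₁ᶜ, hN.inter h₁.isOpen_compl, ⟨hyN, hy1⟩, fun z hz => hNV hz.1, fun z hz hzC => ?_⟩
      rw [if_neg (show z ∉ C₁ from hz.2)]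
      exact hl z hz.1 (hzC.resolve_left hz.2)
  · by_cases h : g q ∈ C₁
    · simp only [if_pos h]; exact g₁.compat q h
    · simp only [if_neg h]; exact g₂.compat q (hq.resolve_left h)

/-- Intersections of chains: a selection extends to some member of the chain. -/
theorem exists_good_of_sInter (hd : Data g V R M) [CompactSpace Y] [PrespectralSpace Y] [QuasiSeparatedSpace Y]
    (hg : Continuous g) (hgc : ∀ N : Set Y, IsOpen N → IsCompact N → IsCompact (g ⁻¹' N))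
    (ch : Set (Set Y)) (hne : ch.Nonempty) (hch : IsChain (· ⊆ ·) ch) (hcl : ∀ C ∈ ch, IsClosed C)
    {c : Y → J} (hc : Good g V R M (⋂₀ ch) c) : ∃ C ∈ ch, ∃ c', Good g V R M C c' := by
  classical
  have hCc : IsClosed (⋂₀ ch) := isClosed_sInter hcl
  have hN : ∀ y ∈ ⋂₀ ch, ∃ N : Set Y, IsOpen N ∧ IsCompact N ∧ y ∈ N ∧ N ⊆ V (c y) ∧
      ∀ z ∈ N, z ∈ ⋂₀ ch → z ∈ R (c y) (c z) := fun y hy => by
    obtain ⟨N, hN, hyN, hNV, hl⟩ := hc.local' y hy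
    obtain ⟨K, ⟨hKo, hKc⟩, hyK, hKN⟩ :=
      PrespectralSpace.isTopologicalBasis.exists_subset_of_mem_open hyN hN
    exact ⟨K, hKo, hKc, hyK, hKN.trans hNV, fun z hz => hl z (hKN hz)⟩
  choose N hNo hNc hNmem hNV hNl using hN
  obtain ⟨F, hF⟩ := hCc.isCompact.elim_finite_subcover (fun y : ↥(⋂₀ ch) => N y.1 y.2) (fun y => hNo _ _)
    (fun y hy => Set.mem_iUnion.2 ⟨⟨y, hy⟩, hNmem y hy⟩)
  -- the three kinds of bad sets, all compact and missing the intersection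
  let D : Set Y := (⋃ y ∈ F, N y.1 y.2)ᶜ ∪
    ⋃ a ∈ F, ⋃ b ∈ F, (N a.1 a.2 ∩ N b.1 b.2) \ R (c a.1) (c b.1)
  let E : Set T := ⋃ a ∈ F, g ⁻¹' (N a.1 a.2) \ M (c a.1)
  have hD : IsCompact D := by
    refine (isClosed_compl_iff.2 (isOpen_biUnion fun y _ => hNo _ _)).isCompact.union ?_
    refine F.isCompact_biUnion fun a _ => F.isCompact_biUnion fun b _ => ?_
    exact IsCompact.diff (QuasiSeparatedSpace.inter_isCompact _ _ (hNo _ _) (hNc _ _) (hNo _ _) (hNc _ _))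
      (hd.isOpen_R _ _)
  have hE : IsCompact E := F.isCompact_biUnion fun a _ => (hgc _ (hNo _ _) (hNc _ _)).diff (hd.isOpen_M _)
  have hDC : D ∩ ⋂₀ ch = ∅ := by
    refine Set.eq_empty_iff_forall_notMem.2 fun z ⟨hz, hzC⟩ => ?_
    obtain hz | hz := hz
    · exact hz (hF hzC)
    · simp only [Set.mem_iUnion] at hz
      obtain ⟨a, -, b, -, ⟨hza, hzb⟩, hne'⟩ := hz
      exact hne' (hd.trans _ _ _ ⟨hNl a.1 a.2 z hza hzC, hd.symm _ _ (hNl b.1 b.2 z hzb hzC)⟩)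
  have hEC : E ∩ g ⁻¹' ⋂₀ ch = ∅ := by
    refine Set.eq_empty_iff_forall_notMem.2 fun q ⟨hq, hqC⟩ => ?_
    simp only [E, Set.mem_iUnion] at hq
    obtain ⟨a, -, hqa, hqM⟩ := hq
    have h1 := hc.compat q hqC
    exact hqM ((hd.iff _ _ q h1 (hNV _ _ hqa)).2 (hd.symm _ _ (hNl a.1 a.2 _ hqa hqC)))
  haveI : Nonempty ↥ch := hne.to_subtype
  have hdir : Directed (· ⊇ ·) (fun C : ↥ch => C.1) := fun a b =>
    (hch.total a.2 b.2).elim (fun h => ⟨a, subset_rfl, h⟩) fun h => ⟨b, h, subset_rfl⟩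
  obtain ⟨C₁, hC₁⟩ := hD.elim_directed_family_closed (fun C : ↥ch => C.1) (fun C => hcl _ C.2)
    (by rw [← Set.sInter_eq_iInter]; exact hDC) hdir
  obtain ⟨C₂, hC₂⟩ := hE.elim_directed_family_closed (fun C : ↥ch => g ⁻¹' C.1) (fun C => (hcl _ C.2).preimage hg)
    (by rw [← Set.preimage_iInter, ← Set.sInter_eq_iInter]; exact hEC)
    (fun a b => (hdir a b).imp fun _ h => ⟨Set.preimage_mono h.1, Set.preimage_mono h.2⟩)
  obtain ⟨C, hC1, hC2⟩ := hdir C₁ C₂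
  have hD' : ∀ z ∈ C.1, z ∉ D := fun z hz h => hC₁.le ⟨h, hC1 hz⟩
  have hcov : ∀ z ∈ C.1, ∃ a, a ∈ F ∧ z ∈ N a.1 a.2 := fun z hz => by
    by_contra h
    refine hD' z hz (Or.inl ?_)
    simpa using h
  let pick : Y → J := fun z => if hz : ∃ a, a ∈ F ∧ z ∈ N a.1 a.2 then c hz.choose.1 else c z
  have hpick : ∀ z ∈ C.1, ∃ a, a ∈ F ∧ z ∈ N a.1 a.2 ∧ pick z = c a.1 := fun z hz =>
    ⟨(hcov z hz).choose, (hcov z hz).choose_spec.1, (hcov z hz).choose_spec.2, dif_pos (hcov z hz)⟩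
  refine ⟨C.1, C.2, pick, ⟨fun y hy => ?_, fun q hq => ?_⟩⟩
  · obtain ⟨a, haF, hya, ha⟩ := hpick y hy
    refine ⟨N a.1 a.2, hNo _ _, hya, by rw [ha]; exact hNV _ _, fun z hz hzC => ?_⟩
    obtain ⟨b, hbF, hzb, hb⟩ := hpick z hzC
    rw [ha, hb]
    by_contra h
    refine hD' z hzC (Or.inr ?_)
    simp only [Set.mem_iUnion]
    exact ⟨a, haF, b, hbF, ⟨hz, hzb⟩, h⟩
  · obtain ⟨a, haF, hqa, ha⟩ := hpick (g q) hq
    rw [ha]
    by_contra h
    refine hC₂.le ⟨?_, hC2 hq⟩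
    simp only [E, Set.mem_iUnion]
    exact ⟨a, haF, hqa, h⟩

/-- The irreducible step. -/
theorem exists_good_irreducible (hd : Data g V R M) [Finite J] [QuasiSober Y] {C : Set Y}
    (hC : IsIrreducible C) (hCc : IsClosed C) (hconn : _root_.IsConnected (g ⁻¹' C))
    (hne : ∀ C' : Set Y, IsClosed C' → C'.Nonempty → (g ⁻¹' C').Nonempty)
    (hsub : ∀ C' : Set Y, IsClosed C' → C' ⊂ C → ∃ c, Good g V R M C' c) :
    ∃ c, Good g V R M C c := by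
  classical
  obtain ⟨η, hη⟩ := QuasiSober.sober hC hCc
  have hgen : ∀ y ∈ C, ∀ O : Set Y, IsOpen O → y ∈ O → η ∈ O := fun y hy O hO hyO =>
    (hη.specializes hy).mem_open hO hyO
  obtain ⟨q₀, hq₀⟩ := hconn.nonempty
  obtain ⟨l₀, hl₀⟩ := hd.cover q₀
  -- the class at the generic point
  have hcls : ∀ q, g q ∈ C → ∀ l, q ∈ M l → η ∈ R l₀ l := by
    intro q hq l hql
    by_contra hcon
    let A : Set T := ⋃ l ∈ {l | η ∈ R l₀ l}, M l
    let B : Set T := ⋃ l ∈ {l | η ∉ R l₀ l}, M l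
    have hdisj : ∀ p, g p ∈ C → p ∈ A → p ∉ B := by
      intro p hp hA hB
      simp only [A, B, Set.mem_iUnion, Set.mem_setOf_eq] at hA hB
      obtain ⟨a, ha, hpa⟩ := hA
      obtain ⟨b, hb, hpb⟩ := hB
      exact hb (hd.trans _ _ _ ⟨ha, hgen _ hp _ (hd.isOpen_R _ _) ((hd.iff a b p hpa (hd.mem_V' _ p hpb)).1 hpb)⟩)
    obtain ⟨p, hp, hpA, hpB⟩ := hconn.isPreconnected A B (isOpen_biUnion fun l _ => hd.isOpen_M l)
      (isOpen_biUnion fun l _ => hd.isOpen_M l)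
      (fun p _ => by
        obtain ⟨l, hl⟩ := hd.cover p
        by_cases h : η ∈ R l₀ l
        · exact Or.inl (Set.mem_biUnion h hl)
        · exact Or.inr (Set.mem_biUnion h hl))
      ⟨q₀, hq₀, Set.mem_biUnion (show l₀ ∈ {l | η ∈ R l₀ l} from
        hd.refl _ (hgen _ hq₀ _ (hd.isOpen_V _) (hd.mem_V' _ _ hl₀))) hl₀⟩
      ⟨q, hq, Set.mem_biUnion (show l ∈ {l | η ∉ R l₀ l} from hcon) hql⟩
    exact hdisj p hp hpA hpB
  let O : Set Y := R l₀ l₀ ∩ ⋂ l : {l // η ∈ R l₀ l}, R l₀ l.1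
  have hOo : IsOpen O := (hd.isOpen_R _ _).inter (isOpen_iInter_of_finite fun l => hd.isOpen_R _ _)
  have hηO : η ∈ O := ⟨hd.refl _ (hgen _ hq₀ _ (hd.isOpen_V _) (hd.mem_V' _ _ hl₀)), Set.mem_iInter.2 fun l => l.2⟩
  have hC₁ : IsClosed (C \ O) := hCc.sdiff hOo
  obtain ⟨c₁, hc₁⟩ := hsub _ hC₁ ⟨Set.sdiff_subset, fun h => (h hη.mem).2 hηO⟩
  have hm : ∀ y ∈ C \ O, η ∈ R l₀ (c₁ y) := by
    by_contra h
    push Not at h
    let D : Set Y := {y | y ∈ C \ O ∧ η ∉ R l₀ (c₁ y)}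
    have hD : IsClosed D := by
      refine isOpen_compl_iff.1 (isOpen_iff_forall_mem_open.2 fun y hy => ?_)
      by_cases hyC : y ∈ C \ O
      · have hyR : η ∈ R l₀ (c₁ y) := by
          by_contra h
          exact hy ⟨hyC, h⟩
        obtain ⟨N, hN, hyN, -, hl⟩ := hc₁.local' y hyC
        exact ⟨N, fun z hz hzD => hzD.2 (hd.trans _ _ _ ⟨hyR, hgen _ hzD.1.1 _ (hd.isOpen_R _ _) (hl z hz hzD.1)⟩),
          hN, hyN⟩
      · exact ⟨(C \ O)ᶜ, fun z hz hzD => hz hzD.1, hC₁.isOpen_compl, hyC⟩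
    obtain ⟨y, hy⟩ := h
    obtain ⟨q, hq⟩ := hne D hD ⟨y, hy⟩
    exact hq.2 (hcls q hq.1.1 _ (hc₁.compat q hq.1))
  refine ⟨fun y => if y ∈ O then l₀ else c₁ y, ⟨fun y hy => ?_, fun q hq => ?_⟩⟩
  · by_cases hyO : y ∈ O
    · simp only [if_pos hyO]
      exact ⟨O, hOo, hyO, fun z hz => hd.mem_V _ _ hz.1, fun z hz _ => by rw [if_pos hz]; exact hz.1⟩
    · simp only [if_neg hyO]
      obtain ⟨N, hN, hyN, hNV, hl⟩ := hc₁.local' y ⟨hy, hyO⟩
      refine ⟨N, hN, hyN, hNV, fun z hz hzC => ?_⟩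
      by_cases hzO : z ∈ O
      · rw [if_pos hzO]
        exact hd.symm _ _ (Set.mem_iInter.1 hzO.2 ⟨c₁ y, hm y ⟨hy, hyO⟩⟩)
      · rw [if_neg hzO]
        exact hl z hz ⟨hzC, hzO⟩
  · by_cases hqO : g q ∈ O
    · simp only [if_pos hqO]
      obtain ⟨l, hl⟩ := hd.cover q
      exact (hd.iff l l₀ q hl (hd.mem_V _ _ hqO.1)).2
        (hd.symm _ _ (Set.mem_iInter.1 hqO.2 ⟨l, hcls q hq l hl⟩))
    · simp only [if_neg hqO]
      exact hc₁.compat q ⟨hq, hqO⟩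

/-- Global selections exist. -/
theorem exists_good_univ (hd : Data g V R M) [Finite J] [SpectralSpace Y] (hg : Continuous g)
    (hgc : ∀ N : Set Y, IsOpen N → IsCompact N → IsCompact (g ⁻¹' N))
    (hconn : ∀ y : Y, _root_.IsConnected (g ⁻¹' closure {y})) :
    ∃ c, Good g V R M Set.univ c := by
  have hne : ∀ C : Set Y, IsClosed C → C.Nonempty → (g ⁻¹' C).Nonempty := fun C hC ⟨y, hy⟩ =>
    (hconn y).nonempty.mono (Set.preimage_mono (hC.closure_subset_iff.2 (Set.singleton_subset_iff.2 hy)))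
  by_cases hY : Nonempty Y
  swap
  · exact ⟨fun y => (hY ⟨y⟩).elim, ⟨fun y => (hY ⟨y⟩).elim, fun q => (hY ⟨g q⟩).elim⟩⟩
  obtain ⟨y₀⟩ := hY
  obtain ⟨q₀, -⟩ := (hconn y₀).nonempty
  haveI : Nonempty J := ⟨(hd.cover q₀).choose⟩
  by_contra hbad
  let S : Set (Set Y) := {C | IsClosed C ∧ ¬ ∃ c, Good g V R M C c}
  obtain ⟨C, hCS⟩ := zorn_superset S fun ch hchS hch => by
    rcases ch.eq_empty_or_nonempty with rfl | hne'
    · exact ⟨Set.univ, ⟨isClosed_univ, hbad⟩, fun s hs => absurd hs (Set.notMem_empty s)⟩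
    · refine ⟨⋂₀ ch, ⟨isClosed_sInter fun s hs => (hchS hs).1, fun ⟨c, hc⟩ => ?_⟩, fun s hs => Set.sInter_subset_of_mem hs⟩
      obtain ⟨C, hC, c', hc'⟩ := exists_good_of_sInter hd hg hgc ch hne' hch (fun s hs => (hchS hs).1) hc
      exact (hchS hC).2 ⟨c', hc'⟩
  obtain ⟨⟨hCc, hCbad⟩, hmin⟩ := hCS
  have hsub : ∀ C' : Set Y, IsClosed C' → C' ⊂ C → ∃ c, Good g V R M C' c := fun C' hC' hlt => by
    by_contra h
    exact hlt.2 (hmin ⟨hC', h⟩ hlt.1)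
  by_cases hirr : IsIrreducible C
  · obtain ⟨η, hη⟩ := QuasiSober.sober hirr hCc
    exact hCbad (exists_good_irreducible hd hirr hCc (hη.def ▸ hconn η) hne hsub)
  · rcases C.eq_empty_or_nonempty with rfl | hCne
    · exact hCbad ⟨fun _ => Classical.arbitrary J, ⟨fun y hy => hy.elim, fun q hq => hq.elim⟩⟩
    · have hpre : ¬ IsPreirreducible C := fun h => hirr ⟨hCne, h⟩
      rw [isPreirreducible_iff_isClosed_union_isClosed] at hpre
      push Not at hpre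
      obtain ⟨z₁, z₂, hz₁, hz₂, hcov, h₁, h₂⟩ := hpre
      obtain ⟨c₁, hc₁⟩ := hsub (C ∩ z₁) (hCc.inter hz₁)
        ⟨Set.inter_subset_left, fun h => h₁ fun x hx => (h hx).2⟩
      obtain ⟨c₂, hc₂⟩ := hsub (C ∩ z₂) (hCc.inter hz₂)
        ⟨Set.inter_subset_left, fun h => h₂ fun x hx => (h hx).2⟩
      obtain ⟨c, hc⟩ := exists_good_union hd (hCc.inter hz₁) (hCc.inter hz₂) hc₁ hc₂ hne
      rw [← Set.inter_union_distrib_left, Set.inter_eq_left.2 hcov] at hc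
      exact hCbad ⟨c, hc⟩

/-- An open containing the image is everything. -/
theorem eq_univ_of_range_subset (hconn : ∀ y : Y, _root_.IsConnected (g ⁻¹' closure {y})) {O : Set Y}
    (hO : IsOpen O) (h : Set.range g ⊆ O) : O = Set.univ := by
  refine Set.eq_univ_of_forall fun y => ?_
  by_contra hy
  obtain ⟨q, hq⟩ := (hconn y).nonempty
  exact hO.isClosed_compl.closure_subset_iff.2 (Set.singleton_subset_iff.2 hy) hq (h ⟨q, rfl⟩)

end Groth.L23.Rigidity
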