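import Groth.Agent.L27.EtSite.H0Gabber
import Groth.Agent.L27.EtSite.EtaLocal
import Groth.Agent.L23.Rigidity.Zar
import Mathlib.AlgebraicGeometry.Morphisms.FlatMono

/-! # Global sections of etale sheaves along morphisms with connected closed pieces

`f : T ⟶ S` is a quasi-compact morphism to a qcqs scheme such that for every finite `Y ⟶ S` the preimage
in `Y ×_S T` of every irreducible closed subset of `Y` is connected (and nonempty). If etale schemes can be
split by finite surjective morphisms, pullback of global sections along `f` is bijective for every sheaf. -/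

universe u v w

open CategoryTheory CategoryTheory.Limits AlgebraicGeometry TopologicalSpace Opposite

set_option backward.isDefEq.respectTransparency.types false
set_option linter.style.haveILetI false
set_option linter.unusedSectionVars false
set_option linter.unusedVariables false
set_option autoImplicit false

noncomputable section

namespace Groth.L23.Rigidity

open Groth.L27.EtSite
open Groth.L27.EtSite.Agree (At comp_hom comp_lift lift_congr)
open Groth.L27.EtSite.H0Gabber (Chart Agrees toTop hom_top_ext exists_factor comp_from_default from_default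
  default_eq range_subset_of_default agrees_comp isOpen_agrees isOpen_rel rel_comp rel_refl)

variable {T S : Scheme.{u}} (f : T ⟶ S)

/-- Preimages of irreducible closed subsets of finite schemes over the base are connected. -/
def ConnPieces : Prop :=
  ∀ (Y : Scheme.{u}) (π : Y ⟶ S), IsFinite π → ∀ y : Y,
    _root_.IsConnected ((pullback.fst π f) ⁻¹' closure {y})

/-- Finite families of etale schemes satisfying `P`, cofinal near every point, are split by finite surjective
morphisms: every point upstairs lies on a Zariski local section. -/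
def Splits (S : Scheme.{u}) (P : S.Etale → Prop) : Prop :=
  (∀ (W : S.Etale) (w : W.left), ∃ (W₀ : S.Etale) (b : W₀ ⟶ W) (w₀ : W₀.left), P W₀ ∧ b.left w₀ = w) ∧
    ∀ (ι : Type u) [Finite ι] (W : ι → S.Etale), (∀ i, P (W i)) → ∃ (Y : Scheme.{u}) (π : Y ⟶ S),
      IsFinite π ∧ Surjective π ∧ ∀ (i : ι) (p : ↥(pullback (W i).hom π)), ∃ (N : Y.Opens)
        (h : (N : Scheme.{u}) ⟶ (W i).left) (hh : h ≫ (W i).hom = N.ι ≫ π) (y : (N : Scheme.{u})),
          pullback.lift h N.ι hh y = p

variable {A : Type w} [Category.{v} A] {FA : A → A → Type*} {CA : A → Type (u + 1)}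
  [∀ (P Q : A), FunLike (FA P Q) (CA P) (CA Q)] [ConcreteCategory.{u + 1} A FA]
  [HasColimitsOfSize.{u, u} A] [HasProducts.{u} A] [PreservesFilteredColimitsOfSize.{u, u} (forget A)]
  [∀ X : Scheme.{u}, X.smallEtaleTopology.HasSheafCompose (forget A)]
  [((EtCoh.bc f).sheafPushforwardContinuous A S.smallEtaleTopology T.smallEtaleTopology).IsRightAdjoint]
  (F : Sheaf S.smallEtaleTopology A)
  (σ : ToType ((BC.P f F).obj.obj (op ((EtCoh.bc f).obj (EtCoh.top S)))))

/-- The locus where a local section induces `σ`. -/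
abbrev L (W : S.Etale) (s : ToType (F.obj.obj (op W))) : Set ((EtCoh.bc f).obj W).left :=
  CF.locus f F σ (toTop W) s

/-- The fibre product of two etale schemes. -/
abbrev pairObj (W W' : S.Etale) : S.Etale :=
  haveI : AlgebraicGeometry.Etale W.hom := W.prop
  haveI : AlgebraicGeometry.Etale W'.hom := W'.prop
  Scheme.Etale.mk (pullback.fst W.hom W'.hom ≫ W.hom)

/-- The first projection. -/
abbrev pairFst (W W' : S.Etale) : pairObj W W' ⟶ W :=
  MorphismProperty.Over.homMk (pullback.fst W.hom W'.hom) rfl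

/-- The second projection. -/
abbrev pairSnd (W W' : S.Etale) : pairObj W W' ⟶ W' :=
  MorphismProperty.Over.homMk (pullback.snd W.hom W'.hom) pullback.condition.symm

section Points

variable {F σ} {W W' : S.Etale} {s : ToType (F.obj.obj (op W))} {s' : ToType (F.obj.obj (op W'))}
  {K : Type u} [Field K] {α : Spec (CommRingCat.of K) ⟶ W.left} {β : Spec (CommRingCat.of K) ⟶ W'.left}
  {ζ : Spec (CommRingCat.of K) ⟶ T} (hα : α ≫ W.hom = ζ ≫ f) (hβ : β ≫ W'.hom = ζ ≫ f)

theorem exists_pair : ∃ δ : Spec (CommRingCat.of K) ⟶ ((EtCoh.bc f).obj (pairObj W W')).left,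
      δ ≫ pullback.fst (pairObj W W').hom f = pullback.lift α β (hα.trans hβ.symm) ∧
      δ ≫ ((EtCoh.bc f).map (pairFst W W')).left = pullback.lift α ζ hα ∧
      δ ≫ ((EtCoh.bc f).map (pairSnd W W')).left = pullback.lift β ζ hβ := by
  let γ := pullback.lift α β (hα.trans hβ.symm)
  have hγ : γ ≫ (pairObj W W').hom = ζ ≫ f :=
    (Category.assoc _ _ _).symm.trans ((congrArg (· ≫ W.hom) (pullback.lift_fst _ _ _)).trans hα)
  let δ : Spec (CommRingCat.of K) ⟶ ((EtCoh.bc f).obj (pairObj W W')).left := pullback.lift γ ζ hγ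
  refine ⟨δ, pullback.lift_fst _ _ _, ?_, ?_⟩
  · refine pullback.hom_ext ?_ ?_
    · refine ((Category.assoc _ _ _).trans ((congrArg (δ ≫ ·) (EtCoh.isPullback_bc_map f (pairFst W W')).w).trans
        ((Category.assoc _ _ _).symm.trans (congrArg (· ≫ (pairFst W W').left) (pullback.lift_fst _ _ _))))).trans ?_
      exact (pullback.lift_fst _ _ _).trans (pullback.lift_fst _ _ _).symm
    · exact ((Category.assoc _ _ _).trans ((congrArg (δ ≫ ·) (MorphismProperty.Over.w ((EtCoh.bc f).map (pairFst W W')))).trans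
        (pullback.lift_snd _ _ _))).trans (pullback.lift_snd _ _ _).symm
  · refine pullback.hom_ext ?_ ?_
    · refine ((Category.assoc _ _ _).trans ((congrArg (δ ≫ ·) (EtCoh.isPullback_bc_map f (pairSnd W W')).w).trans
        ((Category.assoc _ _ _).symm.trans (congrArg (· ≫ (pairSnd W W').left) (pullback.lift_fst _ _ _))))).trans ?_
      exact (pullback.lift_snd _ _ _).trans (pullback.lift_fst _ _ _).symm
    · exact ((Category.assoc _ _ _).trans ((congrArg (δ ≫ ·) (MorphismProperty.Over.w ((EtCoh.bc f).map (pairSnd W W')))).trans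
        (pullback.lift_snd _ _ _))).trans (pullback.lift_snd _ _ _).symm

/-- Two local sections inducing `σ` at a point agree there. -/
theorem at_of_mem (h : pullback.lift α ζ hα default ∈ L f F σ W s)
    (h' : pullback.lift β ζ hβ default ∈ L f F σ W' s') :
    At F s s' (pullback.lift α β (hα.trans hβ.symm) default) := by
  obtain ⟨δ, hδ, h1, h2⟩ := exists_pair f hα hβ
  let pu := pairFst W W'
  let pv := pairSnd W W'
  have hm : δ default ∈ L f F σ _ (F.obj.map pu.op s) := CF.mem_locus_of_map f F σ pu (hom_top_ext _) (by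
    show ((EtCoh.bc f).map pu).left (δ default) ∈ _
    rw [← Scheme.Hom.comp_apply, h1]; exact h)
  have hm' : δ default ∈ L f F σ _ (F.obj.map pv.op s') := CF.mem_locus_of_map f F σ pv (hom_top_ext _) (by
    show ((EtCoh.bc f).map pv).left (δ default) ∈ _
    rw [← Scheme.Hom.comp_apply, h2]; exact h')
  obtain ⟨Q, c, q, hq, hc⟩ := hm
  obtain ⟨Q', c', q', hq', hc'⟩ := hm'
  obtain ⟨R, i, j, r, hr, -, hij⟩ := exists_common c c' q q' (hq.trans hq'.symm)
  have hT : (BC.P f F).obj.map (i ≫ c).op (BC.eta f F _ (F.obj.map pu.op s)) =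
      (BC.P f F).obj.map (i ≫ c).op (BC.eta f F _ (F.obj.map pv.op s')) := by
    conv_rhs => rw [hij, op_comp, Functor.map_comp, ConcreteCategory.comp_apply, ← hc',
      ← ConcreteCategory.comp_apply, ← Functor.map_comp, ← op_comp, ← hij]
    rw [op_comp, CategoryTheory.Functor.map_comp, ConcreteCategory.comp_apply, ConcreteCategory.comp_apply]
    exact congrArg _ hc.symm
  obtain ⟨V', b, v, hb, hb'⟩ := EtaLocal.eq_near f F (i ≫ c) r _ _ hT
  refine ⟨V', b ≫ pu, b ≫ pv, v, ?_, ?_⟩
  · have h3 : pullback.lift (b ≫ pu).left (b ≫ pv).left ((comp_hom (b ≫ pu)).trans (comp_hom (b ≫ pv)).symm) =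
        (b.left : V'.left ⟶ pullback W.hom W'.hom) :=
      pullback.hom_ext ((pullback.lift_fst _ _ _).trans (congrArg (b.left ≫ ·) rfl))
        ((pullback.lift_snd _ _ _).trans (congrArg (b.left ≫ ·) rfl))
    rw [h3]
    refine hb.trans ?_
    refine (congrArg (pullback.fst _ f) ((Scheme.Hom.comp_apply i.left c.left r).trans
      ((congrArg c.left hr).trans hq))).trans ?_
    exact (Scheme.Hom.comp_apply _ _ _).symm.trans
      (congrArg (fun k : Spec (CommRingCat.of K) ⟶ pullback W.hom W'.hom => k default)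
        hδ)
  · simp only [op_comp, Functor.map_comp, ConcreteCategory.comp_apply]
    exact hb'

/-- Agreement transports the property of inducing `σ`. -/
theorem mem_of_at (h : At F s s' (pullback.lift α β (hα.trans hβ.symm) default))
    (h' : pullback.lift β ζ hβ default ∈ L f F σ W' s') : pullback.lift α ζ hα default ∈ L f F σ W s := by
  obtain ⟨δ, hδ, h1, h2⟩ := exists_pair f hα hβ
  let pu := pairFst W W'
  let pv := pairSnd W W'
  obtain ⟨R, u, v, ρ, hρ, huv⟩ := h
  let k : R.left ⟶ pullback W.hom W'.hom := pullback.lift u.left v.left ((comp_hom u).trans (comp_hom v).symm)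
  let b : R ⟶ pairObj W W' := MorphismProperty.Over.homMk (Q := ⊤) k
    (show k ≫ (pullback.fst W.hom W'.hom ≫ W.hom) = R.hom from (Category.assoc _ _ _).symm.trans
      ((congrArg (· ≫ W.hom) (pullback.lift_fst _ _ _)).trans (comp_hom u)))
  have hbu : b ≫ pu = u := MorphismProperty.Over.Hom.ext
    (pullback.lift_fst _ _ _)
  have hbv : b ≫ pv = v := MorphismProperty.Over.Hom.ext
    (pullback.lift_snd _ _ _)
  have hb : b.left ρ = pullback.fst _ f (δ default) := by
    refine hρ.trans ?_
    exact ((Scheme.Hom.comp_apply _ _ _).symm.trans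
      (congrArg (fun k : Spec (CommRingCat.of K) ⟶ pullback W.hom W'.hom => k default)
        hδ)).symm
  obtain ⟨r, -, hr⟩ := Scheme.exists_preimage_of_isPullback (EtCoh.isPullback_bc_map f b).flip ρ (δ default) hb
  have hr' : r ∈ L f F σ R (F.obj.map v.op s') := by
    refine CF.mem_locus_of_map f F σ v (hom_top_ext (v ≫ toTop W')) ?_
    rw [← hbv, Functor.map_comp]
    show (((EtCoh.bc f).map b).left ≫ ((EtCoh.bc f).map pv).left) r ∈ _
    rw [Scheme.Hom.comp_apply, hr, ← Scheme.Hom.comp_apply, h2]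
    exact h'
  rw [← huv] at hr'
  have h4 := CF.map_mem_locus f F σ u (hom_top_ext (u ≫ toTop W)) hr'
  rw [← hbu, Functor.map_comp] at h4
  have h5 : (((EtCoh.bc f).map b).left ≫ ((EtCoh.bc f).map pu).left) r = pullback.lift α ζ hα default := by
    rw [Scheme.Hom.comp_apply, hr, ← Scheme.Hom.comp_apply]
    exact congrArg (fun k : Spec (CommRingCat.of K) ⟶ pullback W.hom f => k default) h1
  exact h5 ▸ h4

end Points

section Match

variable {F} {Y : Scheme.{u}} {π : Y ⟶ S} {K : Type u} [Field K]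

theorem pt_eq (c : Chart F π) (φ : Spec (CommRingCat.of K) ⟶ Y) (hφ : φ default ∈ c.V)
    {ζ : Spec (CommRingCat.of K) ⟶ T} (e : φ ≫ π = ζ ≫ f) :
    c.pt φ (range_subset_of_default φ hφ) ≫ c.W.hom = ζ ≫ f := (c.pt_hom φ _).trans e

/-- A chart induces `σ` at a field valued point. -/
def Match (c : Chart F π) (φ : Spec (CommRingCat.of K) ⟶ Y) (ζ : Spec (CommRingCat.of K) ⟶ T) : Prop :=
  ∃ (hφ : φ default ∈ c.V) (e : φ ≫ π = ζ ≫ f),
    pullback.lift (c.pt φ (range_subset_of_default φ hφ)) ζ (pt_eq f c φ hφ e) default ∈ L f F σ c.W c.s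

variable {σ}

theorem match_comp (c : Chart F π) {K' : Type u} [Field K'] {φ : Spec (CommRingCat.of K) ⟶ Y}
    {ζ : Spec (CommRingCat.of K) ⟶ T} (e : φ ≫ π = ζ ≫ f)
    (k : Spec (CommRingCat.of K') ⟶ Spec (CommRingCat.of K))
    {φ' : Spec (CommRingCat.of K') ⟶ Y} {ζ' : Spec (CommRingCat.of K') ⟶ T} (hφk : k ≫ φ = φ') (hζk : k ≫ ζ = ζ') :
    Match f σ c φ' ζ' ↔ Match f σ c φ ζ := by
  subst hφk hζk
  have hd : (k ≫ φ) default = φ default := by rw [Scheme.Hom.comp_apply, default_eq]
  have key : ∀ (hφ : φ default ∈ c.V) (hφ' : (k ≫ φ) default ∈ c.V) (e' : (k ≫ φ) ≫ π = (k ≫ ζ) ≫ f),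
      pullback.lift (c.pt (k ≫ φ) (range_subset_of_default _ hφ')) (k ≫ ζ) (pt_eq f c _ hφ' e') default =
        pullback.lift (c.pt φ (range_subset_of_default φ hφ)) ζ (pt_eq f c φ hφ e) default := fun hφ hφ' e' => by
    exact ((lift_congr (h' := (Category.assoc _ _ _).trans ((congrArg (k ≫ ·) (pt_eq f c φ hφ e)).trans
        (Category.assoc _ _ _).symm))
      (c.pt_comp k φ (range_subset_of_default φ hφ) (range_subset_of_default _ hφ')).symm rfl default).trans
      (comp_lift k _ _ (pt_eq f c φ hφ e) default).symm).trans (congrArg _ (default_eq k))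
  constructor
  · rintro ⟨hφ', e', h⟩
    have hφ : φ default ∈ c.V := hd ▸ hφ'
    exact ⟨hφ, e, key hφ hφ' e' ▸ h⟩
  · rintro ⟨hφ, _, h⟩
    have hφ' : (k ≫ φ) default ∈ c.V := hd.symm ▸ hφ
    refine ⟨hφ', (Category.assoc _ _ _).trans ((congrArg (k ≫ ·) e).trans (Category.assoc _ _ _).symm), ?_⟩
    rw [key hφ hφ' ((Category.assoc _ _ _).trans ((congrArg (k ≫ ·) e).trans (Category.assoc _ _ _).symm))]
    exact h

theorem rel_of_match {c c' : Chart F π} {φ φ' : Spec (CommRingCat.of K) ⟶ Y} {ζ : Spec (CommRingCat.of K) ⟶ T}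
    (h : Match f σ c φ ζ) (h' : Match f σ c' φ' ζ) : H0Gabber.Rel c c' φ φ' := by
  obtain ⟨hφ, e, h⟩ := h
  obtain ⟨hφ', e', h'⟩ := h'
  exact ⟨hφ, hφ', (c.pt_hom φ _).trans (e.trans e'.symm),
    at_of_mem f (pt_eq f c φ hφ e) (pt_eq f c' φ' hφ' e') h h'⟩

theorem match_of_rel {c c' : Chart F π} {φ φ' : Spec (CommRingCat.of K) ⟶ Y} {ζ : Spec (CommRingCat.of K) ⟶ T}
    (e : φ ≫ π = ζ ≫ f) (h : H0Gabber.Rel c c' φ φ') (h' : Match f σ c' φ' ζ) : Match f σ c φ ζ := by
  obtain ⟨hφ, hφ₂, _, hA⟩ := h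
  obtain ⟨hφ', e', h'⟩ := h'
  exact ⟨hφ, e, mem_of_at f (pt_eq f c φ hφ e) (pt_eq f c' φ' hφ' e') hA h'⟩

theorem mem_of_agrees {c : Chart F π} {R : S.Etale} {t : ToType (F.obj.obj (op R))}
    {α : Spec (CommRingCat.of K) ⟶ R.left} {φ : Spec (CommRingCat.of K) ⟶ Y} {ζ : Spec (CommRingCat.of K) ⟶ T}
    (hα : α ≫ R.hom = ζ ≫ f) (h : Agrees t c α φ) (h' : Match f σ c φ ζ) :
    pullback.lift α ζ hα default ∈ L f F σ R t := by
  obtain ⟨hφ₁, _, hA⟩ := h
  obtain ⟨hφ, e, h'⟩ := h'
  exact mem_of_at f hα (pt_eq f c φ hφ e) hA h'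

theorem isOpen_match (c : Chart F π) :
    IsOpen {q : ↥(pullback π f) | Match f σ c ((pullback π f).fromSpecResidueField q ≫ pullback.fst π f)
      ((pullback π f).fromSpecResidueField q ≫ pullback.snd π f)} := by
  let P := pullback π f
  let g := pullback.fst π f
  let U : P.Opens := g ⁻¹ᵁ c.V
  have hU : Set.range (U.ι ≫ g) ⊆ Set.range c.V.ι := by
    rw [Scheme.Opens.range_ι]
    rintro _ ⟨x, rfl⟩
    rw [Scheme.Hom.comp_apply]
    exact x.2
  have eU : c.pt (U.ι ≫ g) hU ≫ c.W.hom = (U.ι ≫ pullback.snd π f) ≫ f :=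
    (c.pt_hom _ hU).trans ((Category.assoc _ _ _).trans
      ((congrArg (U.ι ≫ ·) pullback.condition).trans (Category.assoc _ _ _).symm))
  let Λ : (U : Scheme.{u}) ⟶ ((EtCoh.bc f).obj c.W).left := pullback.lift _ _ eU
  have key : ∀ u : (U : Scheme.{u}), Match f σ c (P.fromSpecResidueField (U.ι u) ≫ g)
      (P.fromSpecResidueField (U.ι u) ≫ pullback.snd π f) ↔ Λ u ∈ L f F σ c.W c.s := by
    intro u
    let k : Spec (CommRingCat.of (P.residueField (U.ι u))) ⟶ (U : Scheme.{u}) :=
      IsOpenImmersion.lift U.ι (P.fromSpecResidueField (U.ι u))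
        (range_subset_of_default (K := P.residueField (U.ι u)) _ (by rw [from_default]; exact u.2))
    have hk : k ≫ U.ι = P.fromSpecResidueField (U.ι u) := IsOpenImmersion.lift_fac _ _ _
    have hku : k default = u := by
      apply U.ι.isOpenEmbedding.injective
      rw [← Scheme.Hom.comp_apply, hk]
      exact from_default _
    have hmem : (P.fromSpecResidueField (U.ι u) ≫ g) default ∈ c.V := by
      exact Eq.mpr (congrArg (fun y => y ∈ c.V) (comp_from_default g (U.ι u))) u.2
    have e : (P.fromSpecResidueField (U.ι u) ≫ g) ≫ π = (P.fromSpecResidueField (U.ι u) ≫ pullback.snd π f) ≫ f :=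
      (Category.assoc _ _ _).trans ((congrArg (_ ≫ ·) pullback.condition).trans (Category.assoc _ _ _).symm)
    have hΛ : pullback.lift (c.pt (P.fromSpecResidueField (U.ι u) ≫ g) (range_subset_of_default _ hmem))
        (P.fromSpecResidueField (U.ι u) ≫ pullback.snd π f) (pt_eq f c _ hmem e) default = Λ u := by
      refine Eq.trans ?_ (congrArg Λ hku)
      refine Eq.trans (lift_congr ?_ ?_ default) (comp_lift k _ _ eU default).symm
      · rw [c.pt_comp k _ hU (by rw [← Category.assoc, hk]; exact range_subset_of_default _ hmem)]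
        congr 1
        rw [← Category.assoc, hk]
      · rw [← Category.assoc, hk]
    exact ⟨fun ⟨_, _, h⟩ => hΛ ▸ h, fun h => ⟨hmem, e, hΛ.symm ▸ h⟩⟩
  have hset : {q : P | Match f σ c (P.fromSpecResidueField q ≫ g) (P.fromSpecResidueField q ≫ pullback.snd π f)} =
      U.ι '' (Λ ⁻¹' L f F σ c.W c.s) := by
    ext q
    constructor
    · intro hq
      have hqU : q ∈ U := by
        exact Eq.mp (congrArg (fun y => y ∈ c.V) (comp_from_default g q)) hq.1
      exact ⟨⟨q, hqU⟩, (key ⟨q, hqU⟩).mp hq, rfl⟩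
    · rintro ⟨u, hu, rfl⟩
      exact (key u).mpr hu
  rw [hset]
  exact U.ι.isOpenEmbedding.isOpenMap _ ((CF.isOpen_locus f F σ _ _).preimage Λ.continuous)

end Match

variable {F}

theorem exists_local_lift (p : T) :
    ∃ (W : S.Etale) (s : ToType (F.obj.obj (op W))) (z : ((EtCoh.bc f).obj W).left),
      z ∈ L f F σ W s ∧ pullback.snd W.hom f z = p := by
  let q : ((EtCoh.bc f).obj (EtCoh.top S)).left :=
    pullback.lift f (𝟙 T) ((Category.comp_id f).trans (Category.id_comp f).symm) p
  obtain ⟨W, a, Q', d, e, q', s, hd, he, hs⟩ :=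
    EtaLocal.exists_local f F (𝟙 ((EtCoh.bc f).obj (EtCoh.top S))) σ q
  obtain rfl := hom_top_ext a
  rw [Category.comp_id] at he
  refine ⟨W, s, e.left q', ⟨Q', e, q', rfl, ?_⟩, ?_⟩
  · rw [← hs, ← he]
    simp only [op_comp, Functor.map_comp, ConcreteCategory.comp_apply]
  · have h1 : e.left ≫ ((EtCoh.bc f).obj W).hom = d.left ≫ ((EtCoh.bc f).obj (EtCoh.top S)).hom :=
      (comp_hom e).trans (comp_hom d).symm
    refine ((Scheme.Hom.comp_apply e.left ((EtCoh.bc f).obj W).hom q').symm.trans
      (congrArg (fun k : Q'.left ⟶ T => k q') h1)).trans ?_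
    rw [Scheme.Hom.comp_apply, hd]
    refine (Scheme.Hom.comp_apply _ _ _).symm.trans ?_
    exact congrArg (fun k : T ⟶ T => k p) (pullback.lift_snd _ _ _)

variable (hconn : ConnPieces f) (F)

include hconn in
theorem injective_top : Function.Injective (BC.eta f F (EtCoh.top S)) := by
  intro s t hst
  refine Agree.eq_of_forall F s t fun w => ?_
  let W := EtCoh.top S
  let D := pullback.lift (f := W.hom) (g := W.hom) (𝟙 W.left) (𝟙 W.left) rfl
  have hO : D ⁻¹' {r | At F s t r} = Set.univ := by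
    refine eq_univ_of_range_subset (g := pullback.fst (𝟙 S) f) (hconn S (𝟙 S) inferInstance)
      ((Agree.isOpen_at F s t).preimage D.continuous) ?_
    rintro _ ⟨q, rfl⟩
    obtain ⟨R, b, v, hv, hb⟩ := EtaLocal.eq_near f F (𝟙 ((EtCoh.bc f).obj W)) q s t (congrArg _ hst)
    refine ⟨R, b, b, v, ?_, hb⟩
    refine Eq.trans ?_ (congrArg D hv)
    exact ((comp_lift b.left (𝟙 W.left) (𝟙 W.left) rfl v).trans
      (lift_congr (Category.comp_id _) (Category.comp_id _) v)).symm
  exact hO.ge (Set.mem_univ w)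

include hconn in
theorem surjective_top [CompactSpace S] [QuasiSeparatedSpace S] [QuasiCompact f] {P : S.Etale → Prop}
    (hP : Splits S P) : Function.Surjective (BC.eta f F (EtCoh.top S)) := by
  classical
  intro σ
  -- local lifts near every point of `T`
  have hlift : ∀ p : T, ∃ (W : S.Etale) (s : ToType (F.obj.obj (op W))) (z : ((EtCoh.bc f).obj W).left),
      P W ∧ z ∈ L f F σ W s ∧ pullback.snd W.hom f z = p := fun p => by
    obtain ⟨W, s, z, hz, hzp⟩ := exists_local_lift f σ p
    obtain ⟨W₀, b, w₀, hW₀, hw₀⟩ := hP.1 W (pullback.fst W.hom f z)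
    obtain ⟨z₀, -, hz₀⟩ := Scheme.exists_preimage_of_isPullback (EtCoh.isPullback_bc_map f b).flip w₀ z hw₀
    refine ⟨W₀, F.obj.map b.op s, z₀, hW₀, CF.mem_locus_of_map f F σ b (hom_top_ext _) (hz₀.symm ▸ hz), ?_⟩
    refine Eq.trans ?_ hzp
    rw [← hz₀]
    exact ((Scheme.Hom.comp_apply _ _ _).symm.trans
      (congrArg (fun k : ((EtCoh.bc f).obj W₀).left ⟶ T => k z₀) (MorphismProperty.Over.w ((EtCoh.bc f).map b)))).symm
  choose W s z hW hz hzp using hlift
  let Op : T → Set T := fun p => pullback.snd (W p).hom f '' L f F σ (W p) (s p)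
  haveI : CompactSpace T := QuasiCompact.compactSpace_of_compactSpace f
  obtain ⟨T₀, hT₀⟩ := CompactSpace.isCompact_univ.elim_finite_subcover Op (fun p => by
      haveI : AlgebraicGeometry.Etale (W p).hom := (W p).prop
      exact (pullback.snd (W p).hom f).isOpenMap _ (CF.isOpen_locus f F σ _ _))
    (fun p _ => Set.mem_iUnion.2 ⟨p, z p, hz p, hzp p⟩)
  obtain ⟨Y, π, hπ, hπs, hsplit⟩ := hP.2 T₀ (fun i => W i.1) fun i => hW i.1
  haveI := hπ
  haveI := hπs
  -- charts through every point of `Y ×_S T`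
  have hch : ∀ q : ↥(pullback π f), ∃ c : Chart F π, Match f σ c
      ((pullback π f).fromSpecResidueField q ≫ pullback.fst π f)
      ((pullback π f).fromSpecResidueField q ≫ pullback.snd π f) := by
    intro q
    obtain ⟨p, hp, hqp⟩ := Set.mem_iUnion₂.1 (hT₀ (Set.mem_univ (pullback.snd π f q)))
    obtain ⟨z', hz', hz'q⟩ := hqp
    obtain ⟨ξ, hξ₁, hξ₂⟩ := Scheme.Pullback.exists_preimage_pullback (f := pullback.snd (W p).hom f)
      (g := pullback.snd π f) z' q hz'q
    let Q := pullback (pullback.snd (W p).hom f) (pullback.snd π f)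
    let η := Q.fromSpecResidueField ξ
    let α := η ≫ pullback.fst _ _ ≫ pullback.fst (W p).hom f
    let φ := η ≫ pullback.snd _ _ ≫ pullback.fst π f
    let ζ := η ≫ pullback.snd (pullback.snd (W p).hom f) _ ≫ pullback.snd π f
    have hα : α ≫ (W p).hom = ζ ≫ f := by
      simp only [α, ζ, Category.assoc, pullback.condition]
      simp only [← Category.assoc]
      congr 1
      simp only [Category.assoc]
      exact congrArg (η ≫ ·) pullback.condition
    have hφ : φ ≫ π = ζ ≫ f := by
      simp only [φ, ζ, Category.assoc, pullback.condition]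
    let p' := pullback.lift α φ (hα.trans hφ.symm)
    obtain ⟨N, h, hh, y, hy⟩ := hsplit ⟨p, hp⟩ (p' default)
    let sN := pullback.lift h N.ι hh
    haveI : AlgebraicGeometry.Etale (W p).hom := (W p).prop
    haveI : AlgebraicGeometry.Etale sN := by
      haveI : AlgebraicGeometry.Etale (sN ≫ pullback.snd (W p).hom π) :=
        (pullback.lift_snd h N.ι hh).symm ▸ inferInstance
      exact AlgebraicGeometry.Etale.of_comp sN (pullback.snd (W p).hom π)
    haveI : Mono sN := by
      haveI : Mono (sN ≫ pullback.snd (W p).hom π) := (pullback.lift_snd h N.ι hh).symm ▸ inferInstance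
      exact mono_of_mono sN (pullback.snd (W p).hom π)
    haveI : IsOpenImmersion sN := IsOpenImmersion.of_flat_of_mono _
    have hr : Set.range p' ⊆ Set.range sN := by
      rintro _ ⟨t, rfl⟩
      rw [Subsingleton.elim (α := Spec (CommRingCat.of (Q.residueField ξ))) t default]
      exact ⟨y, hy⟩
    let k := IsOpenImmersion.lift sN p' hr
    have hk : k ≫ sN = p' := IsOpenImmersion.lift_fac _ _ _
    have hkN : k ≫ N.ι = φ := (congrArg (k ≫ ·) (pullback.lift_snd h N.ι hh).symm).trans
      ((Category.assoc _ _ _).symm.trans ((congrArg (· ≫ pullback.snd _ _) hk).trans (pullback.lift_snd _ _ _)))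
    have hkh : k ≫ h = α := (congrArg (k ≫ ·) (pullback.lift_fst h N.ι hh).symm).trans
      ((Category.assoc _ _ _).symm.trans ((congrArg (· ≫ pullback.fst _ _) hk).trans (pullback.lift_fst _ _ _)))
    have hφN : φ default ∈ N := by
      rw [← hkN, Scheme.Hom.comp_apply]
      exact (k default).2
    let c : Chart F π := ⟨W p, s p, N, h, hh⟩
    have hM : Match f σ c φ ζ := by
      refine ⟨hφN, hφ, ?_⟩
      have hpt : c.pt φ (range_subset_of_default φ hφN) = α := by
        show IsOpenImmersion.lift N.ι φ _ ≫ h = α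
        rw [← hkh]
        congr 1
        rw [← cancel_mono N.ι, IsOpenImmersion.lift_fac, hkN]
      refine Eq.mpr (congrArg (fun x => x ∈ _) (lift_congr (h' := hα) hpt rfl default)) ?_
      have h2 : pullback.lift α ζ hα = η ≫ pullback.fst (pullback.snd (W p).hom f) _ := by
        refine pullback.hom_ext ?_ ?_
        · exact (pullback.lift_fst _ _ _).trans (Category.assoc _ _ _).symm
        · exact (pullback.lift_snd _ _ _).trans ((congrArg (η ≫ ·) pullback.condition.symm).trans
            (Category.assoc _ _ _).symm)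
      have h3 : pullback.lift α ζ hα default = z' :=
        (congrArg (fun k : Spec (CommRingCat.of (Q.residueField ξ)) ⟶ pullback (W p).hom f => k default) h2).trans
          ((comp_from_default _ ξ).trans hξ₁)
      exact (congrArg (fun x => x ∈ L f F σ (W p) (s p)) h3).mpr hz'
    obtain ⟨k', hk'⟩ := exists_factor (Q.residueField ξ)
      (η ≫ pullback.snd (pullback.snd (W p).hom f) (pullback.snd π f))
    have hd : (η ≫ pullback.snd (pullback.snd (W p).hom f) (pullback.snd π f)) default = q :=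
      (comp_from_default _ ξ).trans hξ₂
    obtain ⟨k', hk'⟩ : ∃ k' : _ ⟶ Spec ((pullback π f).residueField q),
        k' ≫ (pullback π f).fromSpecResidueField q =
          η ≫ pullback.snd (pullback.snd (W p).hom f) (pullback.snd π f) := hd ▸ ⟨k', hk'⟩
    refine ⟨c, (match_comp (K := (pullback π f).residueField q) (K' := Q.residueField ξ) f c
      ((Category.assoc _ _ _).trans ((congrArg (_ ≫ ·) pullback.condition).trans (Category.assoc _ _ _).symm))
      k' ?_ ?_).1 hM⟩
    · exact (Category.assoc _ _ _).symm.trans ((congrArg (· ≫ pullback.fst π f) hk').trans (Category.assoc _ _ _))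
    · exact (Category.assoc _ _ _).symm.trans ((congrArg (· ≫ pullback.snd π f) hk').trans (Category.assoc _ _ _))
  choose c₀ hc₀ using hch
  haveI : CompactSpace Y := QuasiCompact.compactSpace_of_compactSpace π
  haveI : QuasiSeparatedSpace Y := quasiSeparatedSpace_of_quasiSeparated π
  haveI : SpectralSpace Y := {}
  haveI : QuasiCompact (pullback.fst π f) := MorphismProperty.pullback_fst _ _ ‹QuasiCompact f›
  haveI : CompactSpace ↥(pullback π f) :=
    QuasiCompact.compactSpace_of_compactSpace (pullback.fst π f)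
  obtain ⟨Q₀, hQ₀⟩ := CompactSpace.isCompact_univ.elim_finite_subcover
    (fun q => {q' : ↥(pullback π f) | Match f σ (c₀ q) ((pullback π f).fromSpecResidueField q' ≫ pullback.fst π f)
      ((pullback π f).fromSpecResidueField q' ≫ pullback.snd π f)})
    (fun q => isOpen_match f (c₀ q)) (fun q _ => Set.mem_iUnion.2 ⟨q, hc₀ q⟩)
  let c : Q₀ → Chart F π := fun j => c₀ j.1
  let g := pullback.fst π f
  let R : Q₀ → Q₀ → Set Y := fun j l =>
    {y | H0Gabber.Rel (c j) (c l) (Y.fromSpecResidueField y) (Y.fromSpecResidueField y)}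
  let M : Q₀ → Set ↥(pullback π f) := fun j =>
    {q | Match f σ (c j) ((pullback π f).fromSpecResidueField q ≫ g)
      ((pullback π f).fromSpecResidueField q ≫ pullback.snd π f)}
  have hmemV : ∀ (j : Q₀) (y : Y), (Y.fromSpecResidueField y) default ∈ (c j).V → y ∈ (c j).V := fun j y h => by
    exact (congrArg (fun x => x ∈ (c j).V) (from_default y)).mp h
  have hdata : Data g (fun j => ((c j).V : Set Y)) R M := by
    refine ⟨fun j => (c j).V.2, fun j l => ?_, fun j y hy => rel_refl (K := Y.residueField y) _ _ ?_,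
      fun j l y hy => hmemV j y hy.1, fun j l y hy => hy.symm, fun j l m y hy => hy.1.trans hy.2,
      fun j => isOpen_match f (c j), fun q => ?_, fun j q hq => ?_, fun j l q hq hqV => ?_⟩
    · have h1 := isOpen_rel (c j) (c l) (𝟙 Y) (𝟙 Y) rfl
      simp only [Category.comp_id] at h1
      exact h1
    · exact (congrArg (fun x => x ∈ (c j).V) (from_default y)).mpr hy
    · obtain ⟨j, hj, hjq⟩ := Set.mem_iUnion₂.1 (hQ₀ (Set.mem_univ q))
      exact ⟨⟨j, hj⟩, hjq⟩
    · obtain ⟨h, -, -⟩ := hq
      exact Eq.mp (congrArg (fun y => y ∈ (c j).V) (comp_from_default g q)) h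
    · obtain ⟨k, hk⟩ : ∃ k : _ ⟶ Spec (Y.residueField (g q)), k ≫ Y.fromSpecResidueField (g q) =
          (pullback π f).fromSpecResidueField q ≫ g := by
        obtain ⟨k, hk⟩ := exists_factor ((pullback π f).residueField q) ((pullback π f).fromSpecResidueField q ≫ g)
        exact (comp_from_default g q) ▸ ⟨k, hk⟩
      have e : ((pullback π f).fromSpecResidueField q ≫ g) ≫ π =
          ((pullback π f).fromSpecResidueField q ≫ pullback.snd π f) ≫ f :=
        (Category.assoc _ _ _).trans ((congrArg (_ ≫ ·) pullback.condition).trans (Category.assoc _ _ _).symm)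
      have hiff := rel_comp (K := Y.residueField (g q)) (K' := (pullback π f).residueField q) (c j) (c l)
        (f := Y.fromSpecResidueField (g q)) (f' := Y.fromSpecResidueField (g q)) rfl k hk hk
      exact ⟨fun hl => hiff.1 (rel_of_match f hq hl),
        fun hR => match_of_rel f (c := c l) (c' := c j) e (hiff.2 hR).symm hq⟩
  obtain ⟨J, hJ⟩ := exists_good_univ hdata g.continuous
    (fun N hN hNc => QuasiCompact.isCompact_preimage (f := g) N hN hNc) (hconn Y π hπ)
  choose N' hN'o hxN hN'V hJR using fun y : Y => hJ.local' y trivial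
  let N : Y → Y.Opens := fun y => ⟨N' y, hN'o y⟩
  have hNV : ∀ x y, y ∈ N x → y ∈ (c (J x)).V := fun x y hy => hN'V x hy
  have hcompat : ∀ (x x' p : Y), p ∈ N x → p ∈ N x' →
      H0Gabber.Rel (c (J x)) (c (J x')) (Y.fromSpecResidueField p) (Y.fromSpecResidueField p) :=
    fun x x' p hp hp' => (hJR x p hp trivial).trans (hJR x' p hp' trivial).symm
  have hcompat' : ∀ (x x' : Y) (K : Type u) [Field K] (φ : Spec (CommRingCat.of K) ⟶ Y),
      φ default ∈ N x → φ default ∈ N x' → H0Gabber.Rel (c (J x)) (c (J x')) φ φ := by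
    intro x x' K _ φ h h'
    obtain ⟨k, hk⟩ := exists_factor K φ
    exact (rel_comp (K := Y.residueField (φ default)) _ _ rfl k hk hk).mpr (hcompat x x' _ h h')
  have hmatch : ∀ (K : Type u) [Field K] (φ : Spec (CommRingCat.of K) ⟶ Y) (ζ : Spec (CommRingCat.of K) ⟶ T),
      φ ≫ π = ζ ≫ f → ∀ x, φ default ∈ N x → Match f σ (c (J x)) φ ζ := by
    intro K _ φ ζ e x hx
    have h0 : Match f σ (c (J (φ default))) φ ζ := by
      let k := pullback.lift φ ζ e
      have hk₁ : k ≫ g = φ := pullback.lift_fst _ _ _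
      obtain ⟨l, hl⟩ := exists_factor K k
      have hgk : g (k default) = φ default := by rw [← Scheme.Hom.comp_apply, hk₁]
      have h1 := hJ.compat (k default) trivial
      rw [hgk] at h1
      exact (match_comp (K := (pullback π f).residueField (k default)) f _
        ((Category.assoc _ _ _).trans ((congrArg (_ ≫ ·) pullback.condition).trans (Category.assoc _ _ _).symm)) l
        ((Category.assoc _ _ _).symm.trans ((congrArg (· ≫ g) hl).trans hk₁))
        ((Category.assoc _ _ _).symm.trans ((congrArg (· ≫ pullback.snd π f) hl).trans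
          (pullback.lift_snd _ _ _)))).2 h1
    exact match_of_rel f e (hcompat' x (φ default) K φ hx (hxN _)) h0
  let p₁ := pullback.fst π π
  let p₂ := pullback.snd π π
  let EE : Set ↥(pullback π π) := ⋃ (x : Y) (x' : Y), ({ξ | p₁ ξ ∈ N x ∧ p₂ ξ ∈ N x'} ∩
    {ξ | H0Gabber.Rel (c (J x)) (c (J x')) ((pullback π π).fromSpecResidueField ξ ≫ p₁)
      ((pullback π π).fromSpecResidueField ξ ≫ p₂)})
  have hEE : EE = Set.univ := by
    haveI : IsFinite (p₁ ≫ π) := inferInstance
    refine eq_univ_of_range_subset (g := pullback.fst (p₁ ≫ π) f) (hconn _ (p₁ ≫ π) inferInstance)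
      (isOpen_iUnion fun x => isOpen_iUnion fun x' =>
        ((((N x).2.preimage p₁.continuous).inter ((N x').2.preimage p₂.continuous)).inter
          (isOpen_rel _ _ p₁ p₂ pullback.condition))) ?_
    rintro _ ⟨q, rfl⟩
    let g' := pullback.fst (p₁ ≫ π) f
    let η := (pullback (p₁ ≫ π) f).fromSpecResidueField q
    let φ₁ := η ≫ g' ≫ p₁
    let φ₂ := η ≫ g' ≫ p₂
    let ζ := η ≫ pullback.snd (p₁ ≫ π) f
    have e₁ : φ₁ ≫ π = ζ ≫ f := by
      simp only [φ₁, ζ, g', Category.assoc, pullback.condition]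
    have e₂ : φ₂ ≫ π = ζ ≫ f := by
      refine Eq.trans ?_ e₁
      simp only [φ₁, φ₂, Category.assoc]
      exact congrArg (fun k => η ≫ g' ≫ k) pullback.condition.symm
    have h₁ : φ₁ default = p₁ (g' q) := (comp_from_default _ q).trans (Scheme.Hom.comp_apply _ _ _)
    have h₂ : φ₂ default = p₂ (g' q) := (comp_from_default _ q).trans (Scheme.Hom.comp_apply _ _ _)
    refine Set.mem_iUnion₂.mpr ⟨p₁ (g' q), p₂ (g' q), ⟨hxN _, hxN _⟩, ?_⟩
    have hM₁ := hmatch _ φ₁ ζ e₁ (p₁ (g' q)) (h₁.symm ▸ hxN _)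
    have hM₂ := hmatch _ φ₂ ζ e₂ (p₂ (g' q)) (h₂.symm ▸ hxN _)
    obtain ⟨k, hk⟩ : ∃ k : _ ⟶ Spec ((pullback π π).residueField (g' q)),
        k ≫ (pullback π π).fromSpecResidueField (g' q) = η ≫ g' := by
      obtain ⟨k, hk⟩ := exists_factor ((pullback (p₁ ≫ π) f).residueField q) (η ≫ g')
      exact (comp_from_default g' q) ▸ ⟨k, hk⟩
    exact (rel_comp (K := (pullback π π).residueField (g' q)) _ _
      ((Category.assoc _ _ _).trans ((congrArg (_ ≫ ·) pullback.condition).trans (Category.assoc _ _ _).symm)) k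
      ((Category.assoc _ _ _).symm.trans ((congrArg (· ≫ p₁) hk).trans (Category.assoc _ _ _)))
      ((Category.assoc _ _ _).symm.trans ((congrArg (· ≫ p₂) hk).trans (Category.assoc _ _ _)))).1
      (rel_of_match f hM₁ hM₂)
  have hrel2 : ∀ (K : Type u) [Field K] (f f' : Spec (CommRingCat.of K) ⟶ Y), f ≫ π = f' ≫ π →
      ∃ x x', f default ∈ N x ∧ f' default ∈ N x' ∧ H0Gabber.Rel (c (J x)) (c (J x')) f f' := by
    intro K _ f f' e
    let k := pullback.lift f f' e
    have hk₁ : k ≫ p₁ = f := pullback.lift_fst _ _ _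
    have hk₂ : k ≫ p₂ = f' := pullback.lift_snd _ _ _
    obtain ⟨x, x', ⟨h₁, h₂⟩, h⟩ := Set.mem_iUnion₂.mp (hEE.ge (Set.mem_univ (k default)))
    refine ⟨x, x', ?_, ?_, ?_⟩
    · rw [← hk₁, Scheme.Hom.comp_apply]; exact h₁
    · rw [← hk₂, Scheme.Hom.comp_apply]; exact h₂
    · obtain ⟨l, hl⟩ := exists_factor K k
      exact (rel_comp (K := (pullback π π).residueField (k default)) _ _
        ((Category.assoc _ _ _).trans ((congrArg (_ ≫ ·) pullback.condition).trans (Category.assoc _ _ _).symm)) l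
        ((Category.assoc _ _ _).symm.trans ((congrArg (· ≫ p₁) hl).trans hk₁))
        ((Category.assoc _ _ _).symm.trans ((congrArg (· ≫ p₂) hl).trans hk₂))).mpr h
  let Good : ∀ {R : S.Etale}, ToType (F.obj.obj (op R)) → Prop := fun {R} t =>
    ∀ (K : Type u) [Field K] (α : Spec (CommRingCat.of K) ⟶ R.left) (f : Spec (CommRingCat.of K) ⟶ Y),
      α ≫ R.hom = f ≫ π → ∃ x, f default ∈ N x ∧ Agrees t (c (J x)) α f
  have hmap : ∀ {R R' : S.Etale} (b : R' ⟶ R) (t : ToType (F.obj.obj (op R))),
      Good t → Good (F.obj.map b.op t) := by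
    intro R R' b t ht K _ α f e
    have e' : (α ≫ b.left) ≫ R.hom = f ≫ π :=
      (Category.assoc _ _ _).trans ((congrArg (α ≫ ·) (comp_hom b)).trans e)
    obtain ⟨x, hx, hf, e₁, h⟩ := ht K (α ≫ b.left) f e'
    refine ⟨x, hx, hf, e, ?_⟩
    exact Agree.At.trans F (F.obj.map b.op t) t (c (J x)).s α (α ≫ b.left) ((c (J x)).pt f _)
      ((Category.assoc _ _ _).trans (congrArg (α ≫ ·) (comp_hom b))).symm _ default
      (Agree.At.symm F t (F.obj.map b.op t) (α ≫ b.left) α _ default (Agree.refl F t α default b)) h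
  have huniq : ∀ {R : S.Etale} (t t' : ToType (F.obj.obj (op R))), Good t → Good t' → t = t' := by
    intro R t t' ht ht'
    refine Agree.eq_of_forall F t t' fun r => ?_
    obtain ⟨y, hy⟩ := π.surjective (R.hom r)
    obtain ⟨ξ, hξ, -⟩ := Scheme.Pullback.exists_preimage_pullback (f := R.hom) (g := π) r y hy.symm
    let P := pullback R.hom π
    let α := P.fromSpecResidueField ξ ≫ pullback.fst R.hom π
    let f := P.fromSpecResidueField ξ ≫ pullback.snd R.hom π
    have e : α ≫ R.hom = f ≫ π :=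
      (Category.assoc _ _ _).trans ((congrArg (_ ≫ ·) pullback.condition).trans (Category.assoc _ _ _).symm)
    obtain ⟨x, hx, h⟩ := ht (P.residueField ξ) α f e
    obtain ⟨x', hx', hf', e', h'⟩ := ht' (P.residueField ξ) α f e
    obtain ⟨_, _, h''⟩ := h.trans (hcompat' x x' (P.residueField ξ) f hx hx')
    have h2 := Agree.At.trans F t (c (J x')).s t' α ((c (J x')).pt f _) α _ _ default h''
      (Agree.At.symm F t' (c (J x')).s α _ _ default h')
    have he := comp_lift (f := R.hom) (g := R.hom) α (𝟙 R.left) (𝟙 R.left) rfl (default : Spec (CommRingCat.of (P.residueField ξ)))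
    have hr : α default = r := (comp_from_default _ ξ).trans hξ
    exact ((congrArg (pullback.lift (f := R.hom) (g := R.hom) (𝟙 R.left) (𝟙 R.left) rfl) hr).symm.trans
      (he.trans (lift_congr (Category.comp_id α) (Category.comp_id α) default))) ▸ h2
  have hex : ∀ x : S, ∃ (R : S.Etale) (r : R.left) (t : ToType (F.obj.obj (op R))), R.hom r = x ∧ Good t := by
    intro x
    obtain ⟨y₀, hy₀⟩ := π.surjective x
    let c₀ := c (J y₀)
    haveI : AlgebraicGeometry.Etale c₀.W.hom := c₀.W.prop
    have hy₀V : y₀ ∈ c₀.V := hNV _ _ (hxN y₀)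
    let r₀ := c₀.h ⟨y₀, hy₀V⟩
    let P := pullback c₀.W.hom π
    let pw := pullback.fst c₀.W.hom π
    let py := pullback.snd c₀.W.hom π
    let Aset : Set P := ⋃ x' : Y, ({p | py p ∈ N x'} ∩
      {p | Agrees c₀.s (c (J x')) (P.fromSpecResidueField p ≫ pw) (P.fromSpecResidueField p ≫ py)})
    have hAo : IsOpen Aset := isOpen_iUnion fun x' =>
      ((N x').2.preimage py.continuous).inter (isOpen_agrees c₀.s (c (J x')) pw py pullback.condition)
    haveI : IsFinite pw := MorphismProperty.pullback_fst _ _ hπ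
    let O : c₀.W.left.Opens := ⟨(pw '' Asetᶜ)ᶜ, (pw.isClosedMap _ hAo.isClosed_compl).isOpen_compl⟩
    let M₀ : Y.Opens := N y₀ ⊓ c₀.V
    let j₀ : (M₀ : Scheme.{u}) ⟶ c₀.W.left := Y.homOfLE inf_le_right ≫ c₀.h
    have hr₀ : r₀ ∈ O := by
      rintro ⟨p, hp, hp'⟩
      refine hp ?_
      have hj : j₀ ⟨y₀, hxN y₀, hy₀V⟩ = r₀ := by
        rw [Scheme.Hom.comp_apply]
        exact congrArg c₀.h (Subtype.ext (by simp))
      obtain ⟨q, hq, -⟩ := Scheme.Pullback.exists_preimage_pullback (f := pw) (g := j₀) p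
        ⟨y₀, hxN y₀, hy₀V⟩ (hp'.trans hj.symm)
      let Q := pullback pw j₀
      let η := Q.fromSpecResidueField q
      let α := η ≫ pullback.fst pw j₀ ≫ pw
      let f₁ := η ≫ pullback.fst pw j₀ ≫ py
      let f₂ := η ≫ pullback.snd pw j₀ ≫ M₀.ι
      have hf₂N : f₂ default ∈ N y₀ := by
        have e := comp_from_default (pullback.snd pw j₀ ≫ M₀.ι) q
        refine (congrArg (fun y => y ∈ N y₀) e).mpr ?_
        rw [Scheme.Hom.comp_apply]
        exact (pullback.snd pw j₀ q).2.1
      have hα : c₀.pt f₂ (range_subset_of_default (K := Q.residueField q) _ (hNV _ _ hf₂N)) = α := by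
        have h1 : f₂ = (η ≫ pullback.snd pw j₀ ≫ Y.homOfLE inf_le_right) ≫ c₀.V.ι := by
          simp only [f₂, Category.assoc, Scheme.homOfLE_ι]
        have h2 : IsOpenImmersion.lift c₀.V.ι f₂ (range_subset_of_default (K := Q.residueField q) _ (hNV _ _ hf₂N)) =
            η ≫ pullback.snd pw j₀ ≫ Y.homOfLE inf_le_right := by
          rw [← cancel_mono c₀.V.ι, IsOpenImmersion.lift_fac, h1]
        show _ ≫ c₀.h = _
        rw [h2, Category.assoc, Category.assoc]
        exact congrArg (η ≫ ·) pullback.condition.symm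
      have hαπ : α ≫ c₀.W.hom = f₁ ≫ π := by
        simp only [α, f₁, Category.assoc]
        exact congrArg (fun k => η ≫ pullback.fst pw j₀ ≫ k) pullback.condition
      have hπ' : f₁ ≫ π = f₂ ≫ π := by
        rw [← hαπ, ← hα]
        exact c₀.pt_hom _ _
      obtain ⟨a, b, ha, hb, hab⟩ := hrel2 (Q.residueField q) f₁ f₂ hπ'
      obtain ⟨_, hag⟩ := (hab.trans (hcompat' b y₀ (Q.residueField q) f₂ hb hf₂N)).symm
      rw [hα] at hag
      obtain ⟨k, hk⟩ := exists_factor (Q.residueField q) (η ≫ pullback.fst pw j₀)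
      have hpd : (η ≫ pullback.fst pw j₀) default = p := (comp_from_default _ q).trans hq
      refine Set.mem_iUnion.mpr ⟨a, ?_, ?_⟩
      · have e : f₁ default = py p := by
          refine (comp_from_default (pullback.fst pw j₀ ≫ py) q).trans ?_
          rw [Scheme.Hom.comp_apply, hq]
        exact (congrArg (fun y => y ∈ N a) e).mp ha
      · obtain ⟨k, hk⟩ : ∃ k : _ ⟶ Spec (P.residueField p),
            k ≫ P.fromSpecResidueField p = η ≫ pullback.fst pw j₀ := hpd ▸ ⟨k, hk⟩
        refine (agrees_comp (K := P.residueField p) (K' := Q.residueField q) c₀.s (c (J a))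
          ((Category.assoc _ _ _).trans ((congrArg (_ ≫ ·) pullback.condition).trans (Category.assoc _ _ _).symm)) k
          ?_ ?_).mp hag
        · exact (Category.assoc _ _ _).symm.trans ((congrArg (· ≫ pw) hk).trans (Category.assoc _ _ _))
        · exact (Category.assoc _ _ _).symm.trans ((congrArg (· ≫ py) hk).trans (Category.assoc _ _ _))
    let R : S.Etale := Scheme.Etale.mk (O.ι ≫ c₀.W.hom)
    let b : R ⟶ c₀.W := MorphismProperty.Over.homMk O.ι rfl
    refine ⟨R, ⟨r₀, hr₀⟩, F.obj.map b.op c₀.s, ?_, ?_⟩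
    · show (O.ι ≫ c₀.W.hom) ⟨r₀, hr₀⟩ = x
      rw [Scheme.Hom.comp_apply]
      refine ((Scheme.Hom.comp_apply _ _ _).symm.trans (congrArg (fun k : (c₀.V : Scheme.{u}) ⟶ S => k ⟨y₀, hy₀V⟩) c₀.hh)).trans ?_
      rw [Scheme.Hom.comp_apply]
      exact hy₀
    · intro K _ α f e
      let β := α ≫ O.ι
      have eβ : β ≫ c₀.W.hom = f ≫ π := (Category.assoc _ _ _).trans e
      let p := pullback.lift β f eβ default
      have hp : p ∈ Aset := by
        by_contra hne
        refine (α default).2 ⟨p, hne, ?_⟩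
        refine ((Scheme.Hom.comp_apply _ _ _).symm.trans
          (congrArg (fun k : Spec (CommRingCat.of K) ⟶ c₀.W.left => k default) (pullback.lift_fst _ _ _))).trans ?_
        exact Scheme.Hom.comp_apply _ _ _
      obtain ⟨x', hx', hag⟩ := Set.mem_iUnion.mp hp
      obtain ⟨k, hk⟩ := exists_factor K (pullback.lift β f eβ)
      have hk₁ : k ≫ P.fromSpecResidueField p ≫ pw = β :=
        (Category.assoc _ _ _).symm.trans ((congrArg (· ≫ pw) hk).trans (pullback.lift_fst _ _ _))
      have hk₂ : k ≫ P.fromSpecResidueField p ≫ py = f :=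
        (Category.assoc _ _ _).symm.trans ((congrArg (· ≫ py) hk).trans (pullback.lift_snd _ _ _))
      obtain ⟨hf, e₁, h⟩ := (agrees_comp (K := P.residueField p) c₀.s (c (J x'))
        ((Category.assoc _ _ _).trans ((congrArg (_ ≫ ·) pullback.condition).trans (Category.assoc _ _ _).symm))
        k hk₁ hk₂).mpr hag
      have hfN : f default ∈ N x' := by
        have h3 : f default = py p := ((Scheme.Hom.comp_apply _ _ _).symm.trans
          (congrArg (fun k : Spec (CommRingCat.of K) ⟶ Y => k default) (pullback.lift_snd β f eβ))).symm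
        exact h3 ▸ hx'
      refine ⟨x', hfN, hf, e, ?_⟩
      exact Agree.At.trans F (F.obj.map b.op c₀.s) c₀.s (c (J x')).s α β ((c (J x')).pt f _)
        (e.trans eβ.symm) _ default
        (Agree.At.symm F c₀.s (F.obj.map b.op c₀.s) β α _ default (Agree.refl F c₀.s α default b)) h
  let Sv : Sieve (EtCoh.top S) :=
    { arrows := fun R _ => ∃ t : ToType (F.obj.obj (op R)), Good t
      downward_closed := fun {R R' a} ⟨t, ht⟩ b => ⟨F.obj.map b.op t, hmap b t ht⟩ }
  have hcov : Sv ∈ S.smallEtaleTopology (EtCoh.top S) := (mem_topology_iff Sv).2 fun x => by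
    obtain ⟨R, r, t, hr, ht⟩ := hex x
    exact ⟨R, toTop R, r, ⟨t, ht⟩, hr⟩
  have hF := ((isSheaf_iff_isSheaf_of_type _ _).1 ((sheafCompose S.smallEtaleTopology (forget A)).obj F).property) Sv hcov
  let fam : Presieve.FamilyOfElements (F.obj ⋙ forget A) Sv.arrows := fun R a h => h.choose
  have hfam : fam.Compatible := by
    intro R₁ R₂ R g₁ g₂ a₁ a₂ h₁ h₂ e
    exact huniq (R := R) (F.obj.map g₁.op h₁.choose) (F.obj.map g₂.op h₂.choose) (hmap g₁ _ h₁.choose_spec)
      (hmap g₂ _ h₂.choose_spec)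
  obtain ⟨s', hs', -⟩ := hF fam hfam
  refine ⟨s', ext_of_locally (BC.P f F) fun q => ?_⟩
  obtain ⟨R, a, r, ⟨t₀, ht₀⟩, hr⟩ := (mem_topology_iff Sv).1 hcov (pullback.fst (EtCoh.top S).hom f q)
  have ha : Sv.arrows a := ⟨t₀, ht₀⟩
  let t := ha.choose
  have ht : Good t := ha.choose_spec
  obtain ⟨r', hr'₁, hr'₂⟩ := Scheme.exists_preimage_of_isPullback (EtCoh.isPullback_bc_map f a).flip r q hr
  obtain ⟨y, hy⟩ := π.surjective ((pullback.fst R.hom f ≫ R.hom) r')
  obtain ⟨ξ, hξ, -⟩ := Scheme.Pullback.exists_preimage_pullback (f := pullback.fst R.hom f ≫ R.hom) (g := π) r' y hy.symm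
  let Z := pullback (pullback.fst R.hom f ≫ R.hom) π
  let η := Z.fromSpecResidueField ξ
  let α := η ≫ pullback.fst _ π ≫ pullback.fst R.hom f
  let ζ := η ≫ pullback.fst _ π ≫ pullback.snd R.hom f
  let φ := η ≫ pullback.snd (pullback.fst R.hom f ≫ R.hom) π
  have e : α ≫ R.hom = φ ≫ π := by
    simp only [α, φ, Category.assoc]
    exact congrArg (η ≫ ·) pullback.condition
  have eζ : α ≫ R.hom = ζ ≫ f := by
    simp only [α, ζ, Category.assoc, pullback.condition]
  obtain ⟨x', hx', hag⟩ := ht (Z.residueField ξ) α φ e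
  have hL := mem_of_agrees f eζ hag (hmatch _ φ ζ (e.symm.trans eζ) x' hx')
  have h2 : pullback.lift α ζ eζ = η ≫ pullback.fst (pullback.fst R.hom f ≫ R.hom) π := by
    refine pullback.hom_ext ?_ ?_
    · exact (pullback.lift_fst _ _ _).trans (Category.assoc _ _ _).symm
    · exact (pullback.lift_snd _ _ _).trans (Category.assoc _ _ _).symm
  have h3 : pullback.lift α ζ eζ default = r' :=
    (congrArg (fun k : Spec (CommRingCat.of (Z.residueField ξ)) ⟶ pullback R.hom f => k default) h2).trans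
      ((comp_from_default _ ξ).trans hξ)
  replace hL := (congrArg (fun x => x ∈ L f F σ R t) h3).mp hL
  obtain ⟨Q, cQ, q', hq', hcQ⟩ := hL
  refine ⟨Q, cQ ≫ (EtCoh.bc f).map a, q', ?_, ?_⟩
  · rw [← hr'₂, ← hq']
    exact Scheme.Hom.comp_apply _ _ _
  · simp only [op_comp, Functor.map_comp, ConcreteCategory.comp_apply]
    rw [← BC.eta_naturality, show F.obj.map a.op s' = t from hs' a ha]
    rw [hom_top_ext a]
    exact hcQ.symm

end Groth.L23.Rigidity
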