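import Groth.Agent.L23.Rigidity.Conn
import Groth.Agent.L27.EtSite.DescTop

/-! # Gabber rigidity in degree 0 for sheaves of sets -/

universe u

open CategoryTheory CategoryTheory.Limits AlgebraicGeometry TopologicalSpace Opposite

set_option backward.isDefEq.respectTransparency.types false
set_option linter.style.haveILetI false
set_option autoImplicit false

noncomputable section

namespace Groth.L23.Rigidity

open Groth.L27.EtSite

/-- Pullback of global sections along a morphism with connected pieces is bijective. -/
theorem bijective_secPull {T S : Scheme.{u}} (f : T ⟶ S) [QuasiCompact f] [CompactSpace S] [QuasiSeparatedSpace S]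
    (hconn : ConnPieces f) {P : S.Etale → Prop} (hP : Splits S P) (F : EtDesc.Sh S) :
    Function.Bijective (EtDesc.secPull f F) := by
  refine ⟨fun s t h => injective_top f F hconn ?_, fun s' => ?_⟩
  · exact ((DescSections.secPull_eq_iff f s _).1 rfl).trans ((DescSections.secPull_eq_iff f t _).1 h.symm).symm
  · obtain ⟨s, hs⟩ := surjective_top f F hconn hP (DescSections.extend f s')
    exact ⟨s, (DescSections.secPull_eq_iff f s s').2 hs⟩

/-- Gabber rigidity in degree 0. -/
theorem bijective_secPull_completion {A : Type u} [CommRing A] (I : Ideal A) [HenselianRing A I] (hI : I.FG)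
    (U : (Spec (CommRingCat.of A)).Opens) (hU : IsCompact (U : Set (Spec (CommRingCat.of A))))
    (hUI : ∀ x : Spec (CommRingCat.of A), x ∉ U → I ≤ x.asIdeal) (F : EtDesc.Sh (U : Scheme.{u})) :
    Function.Bijective
      (EtDesc.secPull ((Spec.map (CommRingCat.ofHom (algebraMap A (AdicCompletion I A)))) ∣_ U) F) := by
  haveI : CompactSpace (U : Scheme.{u}) := isCompact_iff_compactSpace.1 hU
  haveI : QuasiSeparatedSpace (U : Scheme.{u}) := quasiSeparatedSpace_of_quasiSeparated U.ι
  haveI : QuasiCompact ((Spec.map (CommRingCat.ofHom (algebraMap A (AdicCompletion I A)))) ∣_ U) :=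
    IsZariskiLocalAtTarget.restrict (P := @QuasiCompact) inferInstance U
  exact bijective_secPull _ (connPieces_completion I hI U hU hUI) (splits_std U) F

end Groth.L23.Rigidity
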