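import Groth.Agent.L23.Rigidity.Etale
import Mathlib.RingTheory.Unramified.LocalStructure
import Mathlib.RingTheory.AdjoinRoot
import Mathlib.RingTheory.Flat.FaithfullyFlat.Basic

/-! # Splitting standard etale schemes over quasi-affine schemes by finite free algebras -/

universe u

open CategoryTheory CategoryTheory.Limits AlgebraicGeometry TopologicalSpace Opposite Polynomial

set_option backward.isDefEq.respectTransparency.types false
set_option linter.style.haveILetI false
set_option linter.unusedVariables false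
set_option autoImplicit false

noncomputable section

namespace Groth.L23.Rigidity

open Groth.L27.EtSite.H0Gabber (from_default comp_from_default range_subset_of_default)

variable {A : Type u} [CommRing A]

/-- Finitely many monic polynomials split in a finite free extension. -/
theorem exists_split_family (A : Type u) [CommRing A] {ι : Type*} [Finite ι] (p : ι → A[X]) (hp : ∀ i, (p i).Monic) :
    ∃ (B : Type u) (_ : CommRing B) (φ : A →+* B), φ.Finite ∧ Function.Surjective (PrimeSpectrum.comap φ) ∧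
      ∀ i, ((p i).map φ).Splits := by
  classical
  rcases subsingleton_or_nontrivial A with hA | hA
  · exact ⟨A, inferInstance, RingHom.id A, RingHom.Finite.id A,
      fun x => ⟨x, by simp⟩, fun i => by
        rw [Subsingleton.elim ((p i).map (RingHom.id A)) 0]; exact Splits.zero⟩
  haveI := Fintype.ofFinite ι
  suffices h : ∀ s : Finset ι, ∃ (B : Type u) (_ : CommRing B) (_ : Nontrivial B) (φ : A →+* B), φ.Finite ∧
      Function.Surjective (PrimeSpectrum.comap φ) ∧ ∀ i ∈ s, ((p i).map φ).Splits by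
    obtain ⟨B, _, _, φ, h1, h2, h3⟩ := h Finset.univ
    exact ⟨B, _, φ, h1, h2, fun i => h3 i (Finset.mem_univ i)⟩
  intro s
  induction s using Finset.induction with
  | empty => exact ⟨A, _, hA, RingHom.id A, RingHom.Finite.id A, fun x => ⟨x, by simp⟩, fun i hi => by simp at hi⟩
  | insert a s ha ih =>
    obtain ⟨B, _, _, φ, h1, h2, h3⟩ := ih
    obtain ⟨C, _, _, _, _, _, hC⟩ := ((hp a).map φ).exists_splits_map
    refine ⟨C, _, ‹_›, (algebraMap B C).comp φ, (RingHom.finite_algebraMap.2 ‹_›).comp h1, ?_, fun i hi => ?_⟩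
    · rw [PrimeSpectrum.comap_comp]
      haveI : Module.FaithfullyFlat B C := inferInstance
      exact h2.comp PrimeSpectrum.comap_surjective_of_faithfullyFlat
    · rw [← Polynomial.map_map]
      rcases Finset.mem_insert.1 hi with rfl | hi
      · exact hC
      · exact (h3 i hi).map _

variable (U : (Spec (CommRingCat.of A)).Opens)

/-- Etale schemes over `U` which are spectra of standard etale algebras over the ambient ring. -/
def IsStd (W : (U : Scheme.{u}).Etale) : Prop :=
  ∃ (Q : StandardEtalePair A) (e : Spec (CommRingCat.of Q.Ring) ⟶ W.left), IsIso e ∧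
    e ≫ W.hom ≫ U.ι = Spec.map (CommRingCat.ofHom (algebraMap A Q.Ring))

theorem exists_std (W : (U : Scheme.{u}).Etale) (w : W.left) :
    ∃ (W₀ : (U : Scheme.{u}).Etale) (b : W₀ ⟶ W) (w₀ : W₀.left), IsStd U W₀ ∧ b.left w₀ = w := by
  haveI : AlgebraicGeometry.Etale W.hom := W.prop
  obtain ⟨V, hV, hw, -⟩ := exists_isAffineOpen_mem_and_subset (X := W.left) (x := w) (U := ⊤) trivial
  let j : Spec Γ(W.left, V) ⟶ W.left := hV.fromSpec
  let g : Spec Γ(W.left, V) ⟶ Spec (CommRingCat.of A) := j ≫ W.hom ≫ U.ι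
  obtain ⟨φ, hφ⟩ : ∃ φ : CommRingCat.of A ⟶ Γ(W.left, V), Spec.map φ = g := ⟨_, Spec.map_preimage g⟩
  have hφe : φ.hom.Etale := by
    have h : AlgebraicGeometry.Etale (Spec.map φ) := hφ.symm ▸ inferInstance
    exact (HasRingHomProperty.Spec_iff (P := @AlgebraicGeometry.Etale)).1 h
  let B : Type u := Γ(W.left, V)
  letI : Algebra A B := φ.hom.toAlgebra
  haveI : Algebra.Etale A B := hφe
  obtain ⟨z, hz⟩ : ∃ z : Spec Γ(W.left, V), j z = w := by
    have h1 : w ∈ Set.range hV.fromSpec := by rw [hV.range_fromSpec]; exact hw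
    exact h1
  obtain ⟨f, hf, hstd⟩ := Algebra.IsEtaleAt.exists_isStandardEtale (R := A) (S := B) z.asIdeal
  obtain ⟨P⟩ := hstd.nonempty_standardEtalePresentation
  let L := Localization.Away f
  let k : Spec (CommRingCat.of L) ⟶ Spec Γ(W.left, V) := Spec.map (CommRingCat.ofHom (algebraMap B L))
  haveI : IsOpenImmersion k := IsOpenImmersion.of_isLocalization f
  let W₀ : (U : Scheme.{u}).Etale := Scheme.Etale.mk ((k ≫ j) ≫ W.hom)
  let b : W₀ ⟶ W := MorphismProperty.Over.homMk (k ≫ j) rfl
  obtain ⟨z₀, hz₀⟩ : ∃ z₀ : Spec (CommRingCat.of L), k z₀ = z := by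
    have h1 : z ∈ Set.range (PrimeSpectrum.comap (algebraMap B L)) := by
      rw [PrimeSpectrum.localization_away_comap_range L f]
      exact hf
    exact h1
  refine ⟨W₀, b, z₀, ⟨P.P, Spec.map (CommRingCat.ofHom (P.equivRing : L →+* P.P.Ring)), ?_, ?_⟩, ?_⟩
  · exact inferInstanceAs (IsIso (Spec.map (P.equivRing.toRingEquiv.toCommRingCatIso).hom))
  · show _ ≫ ((k ≫ j) ≫ W.hom) ≫ U.ι = _
    rw [Category.assoc k j, Category.assoc, Category.assoc, show j ≫ W.hom ≫ U.ι = Spec.map φ from hφ.symm,
      ← Spec.map_comp, ← Spec.map_comp]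
    congr 1
    refine CommRingCat.hom_ext (RingHom.ext fun a => ?_)
    show P.equivRing (algebraMap B L (algebraMap A B a)) = _
    rw [← IsScalarTower.algebraMap_apply A B L]
    exact P.equivRing.commutes a
  · show (k ≫ j) z₀ = w
    rw [Scheme.Hom.comp_apply, hz₀, hz]

theorem splits_std : Splits (U : Scheme.{u}) (IsStd U) := by
  refine ⟨exists_std U, fun ι _ W hW => ?_⟩
  choose Q e he heW using hW
  obtain ⟨B, _, φ, hfin, hsurj, hsplit⟩ := exists_split_family A (fun i => (Q i).f) fun i => (Q i).monic_f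
  letI : Algebra A B := φ.toAlgebra
  let sφ : Spec (CommRingCat.of B) ⟶ Spec (CommRingCat.of A) := Spec.map (CommRingCat.ofHom φ)
  haveI : IsFinite sφ := by
    rw [IsFinite.SpecMap_iff]
    exact hfin
  haveI : Surjective sφ := ⟨hsurj⟩
  let π : pullback sφ U.ι ⟶ (U : Scheme.{u}) := pullback.snd sφ U.ι
  let yB : pullback sφ U.ι ⟶ Spec (CommRingCat.of B) := pullback.fst sφ U.ι
  refine ⟨_, π, inferInstance, inferInstance, fun i p => ?_⟩
  haveI := he i
  let K : Type u := (pullback (W i).hom π).residueField p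
  let η : Spec (CommRingCat.of K) ⟶ pullback (W i).hom π := (pullback (W i).hom π).fromSpecResidueField p
  let a : Spec (CommRingCat.of K) ⟶ Spec (CommRingCat.of (Q i).Ring) := η ≫ pullback.fst (W i).hom π ≫ inv (e i)
  let bK : Spec (CommRingCat.of K) ⟶ pullback sφ U.ι := η ≫ pullback.snd (W i).hom π
  obtain ⟨χ, hχ⟩ : ∃ χ, Spec.map χ = a := ⟨_, Spec.map_preimage a⟩
  obtain ⟨ψ, hψ⟩ : ∃ ψ, Spec.map ψ = bK ≫ yB := ⟨_, Spec.map_preimage _⟩
  have heq : χ.hom.comp (algebraMap A (Q i).Ring) = ψ.hom.comp φ := by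
    have h1 : Spec.map (CommRingCat.ofHom (algebraMap A (Q i).Ring) ≫ χ) =
        Spec.map (CommRingCat.ofHom φ ≫ ψ) := by
      rw [Spec.map_comp, Spec.map_comp, hχ, hψ, ← heW i]
      simp only [a, bK, yB, Category.assoc, IsIso.inv_hom_id_assoc]
      show η ≫ pullback.fst (W i).hom π ≫ (W i).hom ≫ U.ι =
        η ≫ pullback.snd (W i).hom π ≫ pullback.fst sφ U.ι ≫ sφ
      rw [pullback.condition (f := sφ) (g := U.ι), ← Category.assoc (pullback.fst (W i).hom π),
        pullback.condition (f := (W i).hom) (g := π), Category.assoc]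
    exact congrArg CommRingCat.Hom.hom (Spec.map_injective h1)
  letI : Algebra A K := (ψ.hom.comp φ).toAlgebra
  let χA : (Q i).Ring →ₐ[A] K := ⟨χ.hom, fun r => RingHom.congr_fun heq r⟩
  let ψA : B →ₐ[A] K := ⟨ψ.hom, fun r => rfl⟩
  have hX : (Q i).HasMap (χA (Q i).X) := StandardEtalePair.hasMap_X.map χA
  -- the root through the point
  obtain ⟨m, hm⟩ := splits_iff_exists_multiset.1 (hsplit i)
  rw [((Q i).monic_f.map φ).leadingCoeff, map_one, one_mul] at hm
  obtain ⟨r, hr, hrX⟩ : ∃ r ∈ m, ψ.hom r = χA (Q i).X := by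
    have h0 : (((Q i).f.map φ).map ψ.hom).eval (χA (Q i).X) = 0 := by
      rw [Polynomial.map_map, Polynomial.eval_map]
      exact hX.1
    rw [hm, Polynomial.map_multiset_prod, eval_multiset_prod, Multiset.prod_eq_zero_iff] at h0
    simp only [Multiset.map_map, Multiset.mem_map, Function.comp_apply] at h0
    obtain ⟨r, hr, h⟩ := h0
    simp only [Polynomial.map_sub, Polynomial.map_X, Polynomial.map_C, eval_sub, eval_X, eval_C] at h
    exact ⟨r, hr, (sub_eq_zero.1 h).symm⟩
  have hroot : aeval r (Q i).f = 0 := by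
    rw [aeval_def, ← eval_map]
    show eval r ((Q i).f.map φ) = 0
    rw [hm, eval_multiset_prod]
    refine Multiset.prod_eq_zero ?_
    simp only [Multiset.map_map, Multiset.mem_map, Function.comp_apply]
    exact ⟨r, hr, by simp⟩
  let h : B := aeval r (Q i).g
  have hh : IsUnit (ψ.hom h) := by
    have : ψA h = aeval (χA (Q i).X) (Q i).g := by
      rw [← hrX]
      exact (aeval_algHom_apply ψA r (Q i).g).symm
    exact this ▸ hX.2
  let L := Localization.Away h
  have hmap : (Q i).HasMap (algebraMap B L r) :=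
    ⟨(aeval_algebraMap_apply L r (Q i).f).trans (by rw [hroot, map_zero]),
      (aeval_algebraMap_apply L r (Q i).g).symm ▸ IsLocalization.Away.algebraMap_isUnit h⟩
  let sL : Spec (CommRingCat.of L) ⟶ Spec (CommRingCat.of B) := Spec.map (CommRingCat.ofHom (algebraMap B L))
  haveI : IsOpenImmersion sL := IsOpenImmersion.of_isLocalization h
  let N : (pullback sφ U.ι).Opens := yB ⁻¹ᵁ sL.opensRange
  have hNr : Set.range (N.ι ≫ yB) ⊆ Set.range sL := by
    rintro _ ⟨x, rfl⟩
    rw [Scheme.Hom.comp_apply]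
    exact x.2
  let l : (N : Scheme.{u}) ⟶ Spec (CommRingCat.of L) := IsOpenImmersion.lift sL (N.ι ≫ yB) hNr
  let sR : Spec (CommRingCat.of L) ⟶ Spec (CommRingCat.of (Q i).Ring) :=
    Spec.map (CommRingCat.ofHom ((Q i).lift _ hmap).toRingHom)
  let hN : (N : Scheme.{u}) ⟶ (W i).left := l ≫ sR ≫ e i
  have hcomp : sR ≫ Spec.map (CommRingCat.ofHom (algebraMap A (Q i).Ring)) = sL ≫ sφ := by
    simp only [sR, sL, sφ, ← Spec.map_comp]
    congr 1
    refine CommRingCat.hom_ext (RingHom.ext fun x => ?_)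
    exact ((Q i).lift _ hmap).commutes x
  have hNh : hN ≫ (W i).hom = N.ι ≫ π := by
    rw [← cancel_mono U.ι]
    simp only [hN, Category.assoc]
    rw [heW i, hcomp, ← Category.assoc l, IsOpenImmersion.lift_fac, Category.assoc]
    exact congrArg (N.ι ≫ ·) pullback.condition
  -- the point
  let ψ' : L →+* K := IsLocalization.Away.lift h hh
  let sK : Spec (CommRingCat.of K) ⟶ Spec (CommRingCat.of L) := Spec.map (CommRingCat.ofHom ψ')
  have hsK : sK ≫ sL = bK ≫ yB := by
    rw [← hψ]
    simp only [sK, sL, ← Spec.map_comp]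
    congr 1
    exact CommRingCat.hom_ext (IsLocalization.Away.lift_comp h hh)
  have hbN : Set.range bK ⊆ Set.range N.ι := by
    refine range_subset_of_default bK ?_
    show yB (bK default) ∈ sL.opensRange
    rw [← Scheme.Hom.comp_apply, ← hsK, Scheme.Hom.comp_apply]
    exact ⟨_, rfl⟩
  let k := IsOpenImmersion.lift N.ι bK hbN
  have hk : k ≫ N.ι = bK := IsOpenImmersion.lift_fac _ _ _
  have hkl : k ≫ l = sK := by
    rw [← cancel_mono sL, Category.assoc, IsOpenImmersion.lift_fac, hsK, ← hk, Category.assoc]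
  have hkW : k ≫ hN = η ≫ pullback.fst (W i).hom π := by
    have h1 : sK ≫ sR = a := by
      rw [← hχ]
      simp only [sK, sR, ← Spec.map_comp]
      congr 1
      refine CommRingCat.hom_ext ?_
      let ψ'A : L →ₐ[A] K := ⟨ψ', fun x => by
        rw [IsScalarTower.algebraMap_apply A B L]
        exact IsLocalization.Away.lift_eq h hh (algebraMap A B x)⟩
      have h2 : ψ'A.comp ((Q i).lift _ hmap) = χA := by
        refine (Q i).hom_ext ?_
        rw [AlgHom.comp_apply, StandardEtalePair.lift_X]
        exact (IsLocalization.Away.lift_eq h hh r).trans hrX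
      exact congrArg AlgHom.toRingHom h2
    calc k ≫ hN = (k ≫ l) ≫ sR ≫ e i := by simp only [hN, Category.assoc]
      _ = η ≫ pullback.fst (W i).hom π := by
        rw [hkl, ← Category.assoc, h1]
        simp only [a, Category.assoc, IsIso.inv_hom_id, Category.comp_id]
  refine ⟨N, hN, hNh, k default, ?_⟩
  have h3 : k ≫ pullback.lift hN N.ι hNh = η := by
    refine pullback.hom_ext ?_ ?_
    · rw [Category.assoc, pullback.lift_fst, hkW]
    · rw [Category.assoc, pullback.lift_snd, hk]
  refine (Scheme.Hom.comp_apply k (pullback.lift hN N.ι hNh) default).symm.trans ?_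
  exact (congrArg (fun m : Spec (CommRingCat.of K) ⟶ pullback (W i).hom π => m default) h3).trans (from_default p)

end Groth.L23.Rigidity
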